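import Cfsg.Agent.StdRank2.L3WJ.Hilb
import Cfsg.Agent.StdRank2.L3W.Main

/-!
# Wreath case of type `L₃(q)`: `S₀ ≤ E`

* `hab` : `[S₀, S₀] ≤ U₁U₂`;
* `swapData` : `SwapData` for `P`, `S₀ = P ∩ N(G₁) ∩ N(G₂)`, `N = U₁U₂`;
* `le` : **`S₀ ≤ E`**.
-/

set_option autoImplicit false

namespace Cfsg.Agent.StdRank2.L3WJ

open Subgroup Cfsg.Agent.StdRank2.L3W Cfsg.Agent.StdRank2.OutL3Rel Cfsg.Agent.StdRank2.OutField
  Cfsg.Agent.StdRank2.OutL3Inv Cfsg.Agent.StdRank2.OutL3Je Cfsg.Agent.StdRank2.OutSplit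
open scoped commutatorElement

/-- commutators have trivial type -/
theorem ft_commutator {G : Type*} [Group G] [Finite G] {F : Type*} [Field F] [Finite F] [CharP F 2] {A : Subgroup G}
    {fr : FrameL3 A F} (hZ : Odd (Nat.card (center ↥A))) {a b : G} (ha : (∃ σ, FT fr a σ) ∨ ∃ σ, GT fr a σ)
    (hb : (∃ σ, FT fr b σ) ∨ ∃ σ, GT fr b σ) : FT fr ⁅a, b⁆ 1 := by
  have key : ∀ σ τ : F ≃+* F, σ * τ * σ⁻¹ * τ⁻¹ = 1 := by
    intro σ τ
    rw [OutField.comm σ τ, mul_inv_cancel_right, mul_inv_cancel]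
  rw [commutatorElement_def]
  rcases ha with ⟨σ, ha⟩ | ⟨σ, ha⟩ <;> rcases hb with ⟨τ, hb⟩ | ⟨τ, hb⟩
  · have := ((ha.mul hZ hb).mul hZ (ha.inv hZ)).mul hZ (hb.inv hZ)
    rwa [key] at this
  · have := ((ha.mul_gt hZ hb).mul_ft hZ (ha.inv hZ)).mul hZ (hb.inv hZ)
    rwa [key] at this
  · have := ((ha.mul_ft hZ hb).mul hZ (ha.inv hZ)).mul hZ (hb.inv hZ)
    rwa [key] at this
  · have := ((ha.mul hZ hb).mul_gt hZ (ha.inv hZ)).mul hZ (hb.inv hZ)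
    rwa [key] at this

variable {G : Type*} [Group G] [Finite G] {F : Type*} [Field F] [Finite F] [CharP F 2] {G1 G2 : Subgroup G}
  {fr : FrameL3 G1 F} {fr' : FrameL3 G2 F} {E : Subgroup G} {P : Sylow 2 G} {t : G} (W : Wr fr fr' E P t)
  (hF : 4 ≤ Nat.card F)
include W hF

theorem hab : ∀ a ∈ (P ⊓ NN G1 G2 : Subgroup G), ∀ b ∈ (P ⊓ NN G1 G2 : Subgroup G), ⁅a, b⁆ ∈ fr.U ⊔ fr'.U := by
  intro a ha b hb
  rw [← Uh_eq W hF]
  have hm : ⁅a, b⁆ ∈ S0 G1 G2 (P : Subgroup G) :=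
    mul_mem (mul_mem (mul_mem ha hb) (inv_mem ha)) (inv_mem hb)
  exact (pre W hF).mem_Uh_of_ft hm (ft_commutator W.oddZ (W.adapted.cases ha) (W.adapted.cases hb))
    (ft_commutator W.oddZ' (W.adapted'.cases ha) (W.adapted'.cases hb))

theorem swapData : SwapData (P : Subgroup G) (P ⊓ NN G1 G2 : Subgroup G) (fr.U ⊔ fr'.U) fr.U fr'.U :=
  W.swapData (hW W hF) (hD W hF)

/-- **`S₀ ≤ E`.** -/
theorem le : (P ⊓ NN G1 G2 : Subgroup G) ≤ E := by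
  have hO' : ∀ w ∈ (P ⊓ NN G1 G2 : Subgroup G), w ∉ fr.U ⊔ fr'.U → w * w = 1 → ∀ u ∈ (P : Subgroup G),
      u ∉ (P ⊓ NN G1 G2 : Subgroup G) → u * w = w * u → ∃ x : G, (x⁻¹ * t * x) * w = w * (x⁻¹ * t * x) := by
    intro w hw hwN hw2 u hu hu0 hc
    refine hO W hF w hw hw2 ?_ u hu hu0 hc
    rintro rfl
    exact hwN (one_mem _)
  refine le_of_data (swapData W hF) W.tt W.tP (fun g h => W.F1 g (mem_inf.1 h).2) W.perf W.gen (hab W hF)
    (Z := ZU fr W.oddZ) ?_ ?_ ?_ ?_ ?_ ?_ hO'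
  · rintro _ ⟨v, rfl⟩
    exact u_mem fr _ _ _
  · rintro _ ⟨v, rfl⟩ a ha
    obtain ⟨r, s, w, rfl⟩ := (mem_U fr W.oddZ).1 ha
    exact (u_comm_iff fr W.oddZ _ _ _ _ _ _).2 (by ring)
  · rintro _ ⟨v, rfl⟩
    have e : ⁅u fr v 0 0, u fr 0 1 0⁆ = u fr 0 0 v := by
      have := Pre.comm_u fr W.oddZ v 0 0 0 1 0
      rw [commutatorElement_def, this]
      congr 1
      ring
    rw [← e]
    exact commutator_mem_commutator (u_mem fr _ _ _) (u_mem fr _ _ _)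
  · rintro _ ⟨v, rfl⟩
    rw [u_sq fr W.oddZ, mul_zero, u_zero fr W.oddZ]
  · have : Fintype F := Fintype.ofFinite F
    rw [Nat.card_eq_fintype_card] at hF
    obtain ⟨a, ha0, ha1⟩ : ∃ a : F, a ≠ 0 ∧ a ≠ 1 := by
      classical
      by_contra h
      push Not at h
      have h2 : (Finset.univ : Finset F) ⊆ {0, 1} := by
        intro a _
        by_cases h0 : a = 0
        · simp [h0]
        · simp [h a h0]
      have h3 := Finset.card_le_card h2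
      rw [Finset.card_univ] at h3
      have h4 : ({0, 1} : Finset F).card ≤ 2 := Finset.card_le_two
      omega
    refine ⟨u fr 0 0 1, ⟨1, rfl⟩, u fr 0 0 a, ⟨a, rfl⟩, ?_, ?_, ?_⟩
    · intro h
      rw [← u_zero fr W.oddZ] at h
      exact one_ne_zero (u_inj fr h).2.2
    · intro h
      rw [← u_zero fr W.oddZ] at h
      exact ha0 (u_inj fr h).2.2
    · intro h
      exact ha1 (u_inj fr h).2.2.symm
  · rintro l hl _ ⟨v, rfl⟩
    rcases W.adapted.cases hl with ⟨σ, h1⟩ | ⟨σ, h1⟩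
    · exact ⟨σ v, h1.conj_zero W.oddZ v⟩
    · exact ⟨σ v, h1.conj_zero W.oddZ v⟩

end Cfsg.Agent.StdRank2.L3WJ
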