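import Mathlib
import Cfsg.Agent.StdRank2.OutL3JeMain

/-!
# Elementary abelian groups acting on `A`, type `L₃(q)`, `q ≥ 4` even: orders modulo the kernel

`X` an elementary abelian 2-group all of whose elements have a type with respect to the frame `fr` of `A`:

* `card_le` : `|X| ≤ |C_X(A)| q²`;
* `card_le_of_outer` : `|X| ≤ |C_X(A)| (2 q)` if some element of `X` is not of type `1`.
-/

set_option autoImplicit false

namespace Cfsg.Agent.StdRank2.L3WJ.Elem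

open Subgroup Cfsg.Agent.StdRank2.OutL3Rel Cfsg.Agent.StdRank2.OutField Cfsg.Agent.StdRank2.OutL3Inv
  Cfsg.Agent.StdRank2.OutL3Je Cfsg.Agent.StdRank2.OutL3JeMain

variable {G : Type*} [Group G] [Finite G] {A : Subgroup G} {F : Type*} [Field F] [Finite F] [CharP F 2]
  {fr : FrameL3 A F} (hZ : Odd (Nat.card (Subgroup.center ↥A))) (hA : _root_.commutator ↥A = ⊤)

/-- The projections to `U` of the elements of `X` in `U C(A)`. -/
def tr (fr : FrameL3 A F) (X : Subgroup G) (hX : X ≤ normalizer (A : Set G)) : Subgroup G where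
  carrier := {v | v ∈ fr.U ∧ ∃ y ∈ X, v⁻¹ * y ∈ centralizer (A : Set G)}
  one_mem' := ⟨one_mem _, 1, one_mem _, by rw [inv_one, mul_one]; exact one_mem _⟩
  mul_mem' := by
    rintro a b ⟨ha, y, hy, hay⟩ ⟨hb, z, hz, hbz⟩
    refine ⟨mul_mem ha hb, y * z, mul_mem hy hz, ?_⟩
    have h1 : (a * b)⁻¹ * (y * z) = (b⁻¹ * (a⁻¹ * y) * b) * (b⁻¹ * z) := by group
    rw [h1]
    refine mul_mem ?_ hbz
    rw [mem_centralizer_iff]
    intro g hg
    have h2 : b * g * b⁻¹ ∈ A := mul_mem (mul_mem (fr.U_le hb) hg) (inv_mem (fr.U_le hb))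
    have h3 := mem_centralizer_iff.1 hay _ h2
    calc g * (b⁻¹ * (a⁻¹ * y) * b) = b⁻¹ * ((b * g * b⁻¹) * (a⁻¹ * y)) * b := by group
      _ = b⁻¹ * ((a⁻¹ * y) * (b * g * b⁻¹)) * b := by rw [h3]
      _ = b⁻¹ * (a⁻¹ * y) * b * g := by group
  inv_mem' := by
    rintro a ⟨ha, y, hy, hay⟩
    refine ⟨inv_mem ha, y⁻¹, inv_mem hy, ?_⟩
    rw [inv_inv]
    have h1 : a * y⁻¹ = a * ((a⁻¹ * y)⁻¹) * a⁻¹ := by group
    rw [h1, mem_centralizer_iff]
    intro g hg
    have h2 : a⁻¹ * g * a ∈ A := mul_mem (mul_mem (inv_mem (fr.U_le ha)) hg) (fr.U_le ha)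
    have h3 := mem_centralizer_iff.1 (inv_mem hay) _ h2
    calc g * (a * (a⁻¹ * y)⁻¹ * a⁻¹) = a * ((a⁻¹ * g * a) * (a⁻¹ * y)⁻¹) * a⁻¹ := by group
      _ = a * ((a⁻¹ * y)⁻¹ * (a⁻¹ * g * a)) * a⁻¹ := by rw [h3]
      _ = a * (a⁻¹ * y)⁻¹ * a⁻¹ * g := by group

variable {X : Subgroup G} (hX : X ≤ normalizer (A : Set G))

omit [Finite G] [Finite F] [CharP F 2] in
theorem mem_tr {v : G} : v ∈ tr fr X hX ↔ v ∈ fr.U ∧ ∃ y ∈ X, v⁻¹ * y ∈ centralizer (A : Set G) := Iff.rfl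

omit [Finite G] [Finite F] [CharP F 2] in
/-- conjugates of elements of the centraliser -/
theorem conj_cent {c y : G} (hy : y ∈ normalizer (A : Set G)) (hc : c ∈ centralizer (A : Set G)) :
    y * c * y⁻¹ ∈ centralizer (A : Set G) := by
  rw [mem_centralizer_iff]
  intro a ha
  have h2 : y⁻¹ * a * y ∈ A := (mem_normalizer_iff''.1 hy a).1 ha
  have h3 := mem_centralizer_iff.1 hc _ h2
  calc a * (y * c * y⁻¹) = y * ((y⁻¹ * a * y) * c) * y⁻¹ := by group
    _ = y * (c * (y⁻¹ * a * y)) * y⁻¹ := by rw [h3]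
    _ = y * c * y⁻¹ * a := by group

include hZ in
/-- two elements of `U` which are congruent modulo the centraliser are equal -/
theorem eq_of_cent {v w : G} (hv : v ∈ fr.U) (hw : w ∈ fr.U) (h : v⁻¹ * w ∈ centralizer (A : Set G)) : v = w := by
  have := eq_one_of_centralizer hZ (mul_mem (inv_mem hv) hw) h
  rwa [inv_mul_eq_one] at this

section

variable (had : ∀ y ∈ X, (∃ σ, FT fr y σ) ∨ ∃ σ, GT fr y σ) (hXc : ∀ x ∈ X, ∀ y ∈ X, x * y = y * x)
  (hX2 : ∀ x ∈ X, x * x = 1)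

include hZ hXc in
/-- the elements of `X` normalising `U` commute with the elements of `tr X` -/
theorem comm_tr {x : G} (hx : x ∈ X) (hxU : ∀ v ∈ fr.U, x * v * x⁻¹ ∈ fr.U) {v : G} (hv : v ∈ tr fr X hX) :
    x * v = v * x := by
  obtain ⟨hvU, y, hy, hc⟩ := hv
  have h1 := conj_cent (hX hx) hc
  have h2 : x * (v⁻¹ * y) * x⁻¹ = (x * v * x⁻¹)⁻¹ * y := by
    calc x * (v⁻¹ * y) * x⁻¹ = x * v⁻¹ * (y * x⁻¹) := by group
      _ = x * v⁻¹ * (x⁻¹ * y) := by
        rw [hXc y hy _ (inv_mem hx)]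
      _ = (x * v * x⁻¹)⁻¹ * y := by group
  rw [h2] at h1
  have h3 : v⁻¹ * (x * v * x⁻¹) = (v⁻¹ * y) * ((x * v * x⁻¹)⁻¹ * y)⁻¹ := by group
  have h4 : v⁻¹ * (x * v * x⁻¹) ∈ centralizer (A : Set G) := by
    rw [h3]
    exact mul_mem hc (inv_mem h1)
  have h5 := eq_of_cent hZ hvU (hxU v hvU) h4
  rw [eq_mul_inv_iff_mul_eq] at h5
  exact h5.symm

include hZ hXc in
theorem tr_comm : ∀ v ∈ tr fr X hX, ∀ w ∈ tr fr X hX, v * w = w * v := by
  rintro v ⟨hvU, y, hy, hc⟩ w ⟨hwU, z, hz, hd⟩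
  apply eq_of_cent hZ (mul_mem hvU hwU) (mul_mem hwU hvU)
  -- `(vw)⁻¹ wv` is the product of elements of the centraliser
  have hyz := hXc y hy z hz
  have hvN : v ∈ normalizer (A : Set G) := le_normalizer (fr.U_le hvU)
  have hwN : w ∈ normalizer (A : Set G) := le_normalizer (fr.U_le hwU)
  -- y = v c, z = w d
  have e1 : (v * w)⁻¹ * (y * z) = (w⁻¹ * (v⁻¹ * y) * w⁻¹⁻¹) * (w⁻¹ * z) := by group
  have e2 : (w * v)⁻¹ * (z * y) = (v⁻¹ * (w⁻¹ * z) * v⁻¹⁻¹) * (v⁻¹ * y) := by group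
  have h1 : (v * w)⁻¹ * (y * z) ∈ centralizer (A : Set G) := by
    rw [e1]
    exact mul_mem (conj_cent (inv_mem hwN) hc) hd
  have h2 : (w * v)⁻¹ * (z * y) ∈ centralizer (A : Set G) := by
    rw [e2]
    exact mul_mem (conj_cent (inv_mem hvN) hd) hc
  have e3 : (v * w)⁻¹ * (w * v) = ((v * w)⁻¹ * (y * z)) * ((w * v)⁻¹ * (z * y))⁻¹ := by
    rw [hyz]
    group
  rw [e3]
  exact mul_mem h1 (inv_mem h2)

include hZ hX2 in
theorem tr_two : ∀ v ∈ tr fr X hX, v * v = 1 := by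
  rintro v ⟨hvU, y, hy, hc⟩
  symm
  apply eq_of_cent hZ (one_mem _) (mul_mem hvU hvU)
  have hvN : v ∈ normalizer (A : Set G) := le_normalizer (fr.U_le hvU)
  have e1 : (1 : G)⁻¹ * (v * v) = ((v⁻¹ * (v⁻¹ * y) * v⁻¹⁻¹) * (v⁻¹ * y))⁻¹ := by
    have h2 := hX2 y hy
    have h3 : (v⁻¹ * (v⁻¹ * y) * v⁻¹⁻¹) * (v⁻¹ * y) = v⁻¹ * v⁻¹ * (y * y) := by group
    rw [h3, h2, mul_one, mul_inv_rev, inv_inv, inv_one, one_mul]
  rw [e1]
  exact inv_mem (mul_mem (conj_cent (inv_mem hvN) hc) hc)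

include hZ hA in
/-- the elements of type `1` -/
theorem card_type_one : {y | y ∈ X ∧ FT fr y 1}.ncard ≤
    Nat.card (X ⊓ centralizer (A : Set G) : Subgroup G) * Nat.card (tr fr X hX) := by
  classical
  set N : Subgroup G := X ⊓ centralizer (A : Set G) with hN
  set W := tr fr X hX with hW
  have h1 : ∀ y, y ∈ X → FT fr y 1 → ∃ v ∈ W, v⁻¹ * y ∈ centralizer (A : Set G) := by
    intro y hy h
    obtain ⟨v, hv, hc⟩ := FT.exists_of_one hZ hA (hX hy) h
    exact ⟨v, ⟨hv, y, hy, hc⟩, hc⟩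
  have h2 : ∀ w : G, ∃ z : G, w ∈ W → z ∈ X ∧ w⁻¹ * z ∈ centralizer (A : Set G) := by
    intro w
    by_cases hw : w ∈ W
    · obtain ⟨-, y, hy, hc⟩ := id hw
      exact ⟨y, fun _ => ⟨hy, hc⟩⟩
    · exact ⟨1, fun h => absurd h hw⟩
  choose s hs using h2
  have h3 : ∀ y : G, ∃ v : G, y ∈ X → FT fr y 1 → v ∈ W ∧ v⁻¹ * y ∈ centralizer (A : Set G) := by
    intro y
    by_cases hy : y ∈ X ∧ FT fr y 1
    · obtain ⟨v, hv, hc⟩ := h1 y hy.1 hy.2
      exact ⟨v, fun _ _ => ⟨hv, hc⟩⟩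
    · exact ⟨1, fun h h' => absurd ⟨h, h'⟩ hy⟩
  choose p hp using h3
  have h4 : {y | y ∈ X ∧ FT fr y 1}.ncard ≤ ((N : Set G) ×ˢ (W : Set G)).ncard := by
    apply Set.ncard_le_ncard_of_injOn (fun y => ((s (p y))⁻¹ * y, p y))
    · rintro y ⟨hy, h⟩
      obtain ⟨h5, h6⟩ := hp y hy h
      obtain ⟨h7, h8⟩ := hs (p y) h5
      refine Set.mem_prod.2 ⟨mem_inf.2 ⟨mul_mem (inv_mem h7) hy, ?_⟩, h5⟩
      have e : (s (p y))⁻¹ * y = ((p y)⁻¹ * s (p y))⁻¹ * ((p y)⁻¹ * y) := by group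
      rw [e]
      exact mul_mem (inv_mem h8) h6
    · rintro y ⟨hy, h⟩ y' ⟨hy', h'⟩ e
      have e1 : (s (p y))⁻¹ * y = (s (p y'))⁻¹ * y' := (Prod.mk.inj e).1
      have e2 : p y = p y' := (Prod.mk.inj e).2
      rw [e2] at e1
      exact mul_left_cancel e1
  rwa [Set.ncard_prod] at h4

include hX hZ hA had hXc hX2

/-- The bound in the presence of an element which is not of type `1`. -/
theorem card_le_of_outer (hq : 4 ≤ Nat.card F) {y0 : G} (hy0 : y0 ∈ X) (hn : ¬ FT fr y0 1) :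
    Nat.card X ≤ Nat.card (X ⊓ centralizer (A : Set G) : Subgroup G) * (2 * Nat.card F) := by
  classical
  set W := tr fr X hX with hW
  set N : Subgroup G := X ⊓ centralizer (A : Set G) with hN
  have hWU : W ≤ fr.U := fun v hv => hv.1
  have hWc : ∀ x ∈ W, ∀ y ∈ W, x * y = y * x := tr_comm hZ hX hXc
  have hW2 : ∀ x ∈ W, x * x = 1 := tr_two hZ hX hX2
  have hWn : Nat.card W = (W : Set G).ncard := rfl
  have hEn : Nat.card X = (X : Set G).ncard := rfl
  set E0 : Set G := {y | y ∈ X ∧ FT fr y 1} with hE0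
  set Eγ : Set G := {y | y ∈ X ∧ ∃ σ, FT fr y σ} with hEγ
  have hc0 : E0.ncard ≤ Nat.card N * Nat.card W := card_type_one hZ hA hX
  set q := Nat.card F with hqd
  have hcomF : ∀ {x : G} {σ : F ≃+* F}, x ∈ X → FT fr x σ → ∀ w ∈ W, x * w = w * x := by
    intro x σ hx h w hw
    exact comm_tr hZ hX hXc hx (fun v hv => h.norm hZ hv) hw
  have hcomG : ∀ {x : G} {σ : F ≃+* F}, x ∈ X → GT fr x σ → ∀ w ∈ W, x * w = w * x := by
    intro x σ hx h w hw
    exact comm_tr hZ hX hXc hx (fun v hv => h.norm hZ hv) hw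
  have hstep : ∀ {x : G} {σ : F ≃+* F}, x ∈ X → σ ≠ 1 → FT fr x σ → Eγ.ncard ≤ 2 * E0.ncard := by
    intro x σ hx hσ1 hxσ
    have hσ2 : σ * σ = 1 := hxσ.sq_eq_one hZ (hX2 x hx)
    apply ncard_le_two x
    rintro y ⟨hy, τ, hτ⟩
    by_cases h1 : τ = 1
    · subst h1
      exact Or.inl ⟨hy, hτ⟩
    · right
      have h2 : τ = σ := unique_invol (hτ.sq_eq_one hZ (hX2 y hy)) hσ2 h1 hσ1
      have h3 := (hxσ.inv hZ).mul hZ hτ
      rw [h2, inv_mul_cancel] at h3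
      exact ⟨mul_mem (inv_mem hx) hy, h3⟩
  by_cases hG : ∃ z ∈ X, ∃ ρ, GT fr z ρ
  · obtain ⟨z, hz, ρ, hzρ⟩ := hG
    have hc1 : Nat.card X ≤ 2 * Eγ.ncard := by
      rw [hEn]
      apply ncard_le_two z
      intro y hy
      rcases had y hy with ⟨σ, h⟩ | ⟨σ, h⟩
      · exact Or.inl ⟨hy, σ, h⟩
      · exact Or.inr ⟨mul_mem (inv_mem hz) hy, _, (hzρ.inv hZ).mul hZ h⟩
    have hW0 := subset_of_gt hZ hWU hWc hW2 hzρ (hcomG hz hzρ)
    by_cases hF : ∃ x ∈ X, ∃ σ, σ ≠ 1 ∧ FT fr x σ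
    · obtain ⟨x, hx, σ, hσ1, hxσ⟩ := hF
      have hσ2 : σ * σ = 1 := hxσ.sq_eq_one hZ (hX2 x hx)
      have hc2 := hstep hx hσ1 hxσ
      have hc3 : Nat.card W ≤ Nat.card {x : F // σ x = x} := by
        have h1 : (W : Set G) ⊆ (fun p : F => u fr 0 0 p) '' {p | σ p = p} := by
          intro w hw
          obtain ⟨t', rfl⟩ := hW0 hw
          refine ⟨t', ?_, rfl⟩
          have h2 := hxσ.conj_zero hZ t'
          rw [hcomF hx hxσ _ hw, mul_inv_cancel_right] at h2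
          exact (u_inj fr h2).2.2.symm
        have h2 := Set.ncard_le_ncard h1 (Set.toFinite _)
        have h3 := Set.ncard_image_le (f := fun p : F => u fr 0 0 p) (s := {p | σ p = p}) (Set.toFinite _)
        exact (hWn.le.trans h2).trans h3
      have hf := card_fix hσ2 hσ1
      set f := Nat.card {x : F // σ x = x} with hfd
      have hf2 : 2 ≤ f := by
        by_contra h
        have : f ≤ 1 := by omega
        have : f * f ≤ 1 := Nat.mul_le_mul this this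
        omega
      have h6 : Nat.card N * Nat.card W ≤ Nat.card N * f := Nat.mul_le_mul_left _ hc3
      have h7 : 4 * f ≤ 2 * q := by
        rw [hqd, ← hf]
        have : 2 * f ≤ f * f := Nat.mul_le_mul_right _ hf2
        omega
      have h8 : Nat.card N * (4 * f) ≤ Nat.card N * (2 * q) := Nat.mul_le_mul_left _ h7
      have h9 : Nat.card N * (4 * f) = 4 * (Nat.card N * f) := by ring
      omega
    · push Not at hF
      have hsub : Eγ ⊆ E0 := by
        rintro y ⟨hy, τ, hτ⟩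
        have h1 : τ = 1 := by
          by_contra h
          exact hF y hy τ h hτ
        subst h1
        exact ⟨hy, hτ⟩
      have hc2 := Set.ncard_le_ncard hsub (Set.toFinite _)
      have hc3 : Nat.card W ≤ q := by
        rw [hWn, hqd, ← ncard_S0 (fr := fr)]
        exact Set.ncard_le_ncard hW0 (Set.toFinite _)
      have h6 : Nat.card N * Nat.card W ≤ Nat.card N * q := Nat.mul_le_mul_left _ hc3
      have h9 : Nat.card N * (2 * q) = 2 * (Nat.card N * q) := by ring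
      omega
  · push Not at hG
    have hEγE : (X : Set G) ⊆ Eγ := by
      intro y hy
      rcases had y hy with ⟨σ, h⟩ | ⟨σ, h⟩
      · exact ⟨hy, σ, h⟩
      · exact absurd h (hG y hy σ)
    obtain ⟨-, σ, hxσ⟩ := hEγE hy0
    have hσ1 : σ ≠ 1 := fun h => hn (by rw [← h]; exact hxσ)
    have hσ2 : σ * σ = 1 := hxσ.sq_eq_one hZ (hX2 _ hy0)
    have hc2 := hstep hy0 hσ1 hxσ
    have hc3 := card_le_of_ft hZ hWU hWc hW2 hxσ (hcomF hy0 hxσ)
    rw [card_fix hσ2 hσ1] at hc3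
    have hc1 := Set.ncard_le_ncard hEγE (Set.toFinite _)
    have h6 : Nat.card N * Nat.card W ≤ Nat.card N * q := Nat.mul_le_mul_left _ hc3
    have h9 : Nat.card N * (2 * q) = 2 * (Nat.card N * q) := by ring
    omega

/-- The general bound. -/
theorem card_le (hq : 4 ≤ Nat.card F) :
    Nat.card X ≤ Nat.card (X ⊓ centralizer (A : Set G) : Subgroup G) * Nat.card F ^ 2 := by
  classical
  by_cases h : ∃ y ∈ X, ¬ FT fr y 1
  · obtain ⟨y, hy, hn⟩ := h
    refine (card_le_of_outer hZ hA hX had hXc hX2 hq hy hn).trans (Nat.mul_le_mul_left _ ?_)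
    rw [pow_two]
    exact Nat.mul_le_mul_right _ (by omega)
  · push Not at h
    have h1 := card_type_one (fr := fr) hZ hA hX
    have h2 : (X : Set G) ⊆ {y | y ∈ X ∧ FT fr y 1} := fun y hy => ⟨hy, h y hy⟩
    have h3 : Nat.card X = (X : Set G).ncard := rfl
    have h4 := Set.ncard_le_ncard h2 (Set.toFinite _)
    have h5 : Nat.card (tr fr X hX) ≤ Nat.card F ^ 2 := by
      have h6 : Nat.card (tr fr X hX) = (tr fr X hX : Set G).ncard := rfl
      rw [h6]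
      rcases subset_or hZ (W := tr fr X hX) (fun v hv => hv.1) (tr_comm hZ hX hXc) (tr_two hZ hX hX2) with h7 | h7
      · rw [← ncard_S1 (fr := fr)]
        exact Set.ncard_le_ncard (fun x hx => h7 x hx) (Set.toFinite _)
      · rw [← ncard_S2 (fr := fr)]
        exact Set.ncard_le_ncard (fun x hx => h7 x hx) (Set.toFinite _)
    have h6 := Nat.mul_le_mul_left (Nat.card (X ⊓ centralizer (A : Set G) : Subgroup G)) h5
    omega

omit hX hA hXc in
/-- The elements of `X` of type `1`. -/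
def ty (fr : FrameL3 A F) (hZ : Odd (Nat.card (Subgroup.center ↥A))) (X : Subgroup G) : Subgroup G where
  carrier := {y | y ∈ X ∧ FT fr y 1}
  one_mem' := ⟨one_mem _, FT.one⟩
  mul_mem' := by
    rintro a b ⟨ha, ha'⟩ ⟨hb, hb'⟩
    refine ⟨mul_mem ha hb, ?_⟩
    have := ha'.mul hZ hb'
    rwa [one_mul] at this
  inv_mem' := by
    rintro a ⟨ha, ha'⟩
    refine ⟨inv_mem ha, ?_⟩
    have := ha'.inv hZ
    rwa [inv_one] at this

omit hX hA hXc in
/-- the number of types -/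
theorem card_le_four : Nat.card X ≤ 4 * Nat.card (ty fr hZ X) := by
  classical
  have hEn : Nat.card X = (X : Set G).ncard := rfl
  have hTn : Nat.card (ty fr hZ X) = (ty fr hZ X : Set G).ncard := rfl
  set Eγ : Set G := {y | y ∈ X ∧ ∃ σ, FT fr y σ} with hEγ
  have h1 : Eγ.ncard ≤ 2 * (ty fr hZ X : Set G).ncard := by
    by_cases hF : ∃ x ∈ X, ∃ σ, σ ≠ 1 ∧ FT fr x σ
    · obtain ⟨x, hx, σ, hσ1, hxσ⟩ := hF
      have hσ2 : σ * σ = 1 := hxσ.sq_eq_one hZ (hX2 x hx)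
      apply ncard_le_two x
      rintro y ⟨hy, τ, hτ⟩
      by_cases h1 : τ = 1
      · subst h1
        exact Or.inl ⟨hy, hτ⟩
      · right
        have h2 : τ = σ := unique_invol (hτ.sq_eq_one hZ (hX2 y hy)) hσ2 h1 hσ1
        have h3 := (hxσ.inv hZ).mul hZ hτ
        rw [h2, inv_mul_cancel] at h3
        exact ⟨mul_mem (inv_mem hx) hy, h3⟩
    · push Not at hF
      have hsub : Eγ ⊆ (ty fr hZ X : Set G) := by
        rintro y ⟨hy, τ, hτ⟩
        have h1 : τ = 1 := by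
          by_contra h
          exact hF y hy τ h hτ
        subst h1
        exact ⟨hy, hτ⟩
      have := Set.ncard_le_ncard hsub (Set.toFinite _)
      omega
  have h2 : (X : Set G).ncard ≤ 2 * Eγ.ncard := by
    by_cases hG : ∃ z ∈ X, ∃ ρ, GT fr z ρ
    · obtain ⟨z, hz, ρ, hzρ⟩ := hG
      apply ncard_le_two z
      intro y hy
      rcases had y hy with ⟨σ, h⟩ | ⟨σ, h⟩
      · exact Or.inl ⟨hy, σ, h⟩
      · exact Or.inr ⟨mul_mem (inv_mem hz) hy, _, (hzρ.inv hZ).mul hZ h⟩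
    · push Not at hG
      have hEγE : (X : Set G) ⊆ Eγ := by
        intro y hy
        rcases had y hy with ⟨σ, h⟩ | ⟨σ, h⟩
        · exact ⟨hy, σ, h⟩
        · exact absurd h (hG y hy σ)
      have := Set.ncard_le_ncard hEγE (Set.toFinite _)
      omega
  omega

end

end Cfsg.Agent.StdRank2.L3WJ.Elem
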