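import Mathlib
import Cfsg.Agent.StdRank2.L3WJ.Elem
import Cfsg.Agent.StdRank2.FrameL3P

/-!
# Type `L₃(q)`, the wreath case: the 2-group `S` acting on `A₁ A₂`, large elementary abelian subgroups

`Pre t fr1 fr2 S` : `A₁`, `A₂` commute and are interchanged by the involution `t ∈ S`, frames `fr1`, `fr2` with
`fr1.x i j s ^ t = fr2.x i j s`, the 2-group `S` permutes `A₁`, `A₂`, is adapted and acts faithfully.

* `Pre.S0 = S ∩ N(A₁) ∩ N(A₂)`, `Pre.Uh = U₁ U₂`;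
* `Pre.je` : elementary abelian subgroups of `S` of order `≥ q⁴` lie in `Uh`;
* `Pre.weak` : `Uh` is weakly closed in `S`.
-/

set_option autoImplicit false

namespace Cfsg.Agent.StdRank2.L3WJ

open Subgroup Cfsg.Agent.StdRank2.OutL3Rel Cfsg.Agent.StdRank2.OutField Cfsg.Agent.StdRank2.OutL3Inv
  Cfsg.Agent.StdRank2.OutL3Je Cfsg.Agent.StdRank2.OutL3JeMain

variable {G : Type*} [Group G]

/-- The elements of `S` which normalise `A₁` and `A₂`. -/
def S0 (A1 A2 S : Subgroup G) : Subgroup G := S ⊓ (normalizer (A1 : Set G) ⊓ normalizer (A2 : Set G))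

theorem mem_S0 {A1 A2 S : Subgroup G} {x : G} :
    x ∈ S0 A1 A2 S ↔ x ∈ S ∧ x ∈ normalizer (A1 : Set G) ∧ x ∈ normalizer (A2 : Set G) := by
  rw [S0, mem_inf, mem_inf]

/-- The wreath situation for type `L₃(q)`. -/
structure Pre {F : Type*} [Field F] (t : G) {A1 A2 : Subgroup G} (fr1 : FrameL3 A1 F) (fr2 : FrameL3 A2 F)
    (S : Subgroup G) : Prop where
  Z1 : Odd (Nat.card (center ↥A1))
  p1 : _root_.commutator ↥A1 = ⊤
  comm : ∀ a ∈ A1, ∀ b ∈ A2, a * b = b * a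
  tt : t * t = 1
  swap : ∀ a, a ∈ A1 ↔ t * a * t ∈ A2
  x : ∀ i j : Fin 3, i ≠ j → ∀ s, t * fr1.x i j s * t = fr2.x i j s
  tS : t ∈ S
  two : IsPGroup 2 S
  U1 : fr1.U ≤ S
  perm : ∀ y ∈ S, y ∈ S0 A1 A2 S ∨ t * y ∈ S0 A1 A2 S
  ad1 : Adapted fr1 (S0 A1 A2 S)
  triv : ∀ y ∈ S, y ∈ centralizer (A1 : Set G) → y ∈ centralizer (A2 : Set G) → y = 1
  four : 4 ≤ Nat.card F

namespace Pre

variable {F : Type*} [Field F] {t : G} {A1 A2 : Subgroup G} {fr1 : FrameL3 A1 F} {fr2 : FrameL3 A2 F}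
  {S : Subgroup G} (P : Pre t fr1 fr2 S)

include P

theorem ti : t⁻¹ = t := inv_eq_of_mul_eq_one_right P.tt

theorem tct (x : G) : t * (t * x * t) * t = x := by
  calc t * (t * x * t) * t = (t * t) * x * (t * t) := by group
    _ = x := by rw [P.tt]; group

theorem tmul (x y : G) : t * (x * y) * t = (t * x * t) * (t * y * t) := by
  calc t * (x * y) * t = t * x * (t * t) * y * t := by rw [P.tt]; group
    _ = (t * x * t) * (t * y * t) := by group

theorem tinv (x : G) : t * x⁻¹ * t = (t * x * t)⁻¹ := by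
  rw [mul_inv_rev, mul_inv_rev, P.ti]; group

theorem swap' (a : G) : a ∈ A2 ↔ t * a * t ∈ A1 := by
  rw [P.swap (t * a * t), P.tct]

/-- conjugation by `t` as an isomorphism `A₁ ≃ A₂` -/
def iso : A1 ≃* A2 where
  toFun a := ⟨t * a * t, (P.swap a).1 a.2⟩
  invFun a := ⟨t * a * t, (P.swap' a).1 a.2⟩
  left_inv a := Subtype.ext (P.tct a)
  right_inv a := Subtype.ext (P.tct a)
  map_mul' a b := Subtype.ext (P.tmul a b)

theorem Z2 : Odd (Nat.card (center ↥A2)) := by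
  rw [← Nat.card_congr (Subgroup.centerCongr P.iso).toEquiv]
  exact P.Z1

theorem p2 : _root_.commutator ↥A2 = ⊤ := by
  have h1 : (_root_.commutator ↥A1).map P.iso.toMonoidHom = _root_.commutator ↥A2 := by
    rw [_root_.commutator_def, Subgroup.map_commutator, ← MonoidHom.range_eq_map,
      MonoidHom.range_eq_top.2 P.iso.surjective, _root_.commutator_def]
  rw [← h1, P.p1, ← MonoidHom.range_eq_map, MonoidHom.range_eq_top.2 P.iso.surjective]

theorem norm_swap {y : G} : y ∈ normalizer (A1 : Set G) ↔ t * y * t ∈ normalizer (A2 : Set G) := by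
  rw [mem_normalizer_iff, mem_normalizer_iff]
  constructor
  · intro h g
    have e : t * y * t * g * (t * y * t)⁻¹ = t * (y * (t * g * t) * y⁻¹) * t := by
      rw [mul_inv_rev, mul_inv_rev, P.ti]; group
    rw [e, ← P.swap, ← h (t * g * t), ← P.swap']
  · intro h g
    have e : t * y * t * (t * g * t) * (t * y * t)⁻¹ = t * (y * g * y⁻¹) * t := by
      rw [mul_inv_rev, mul_inv_rev, P.ti]
      calc t * y * t * (t * g * t) * (t * (y⁻¹ * t)) = t * y * (t * t) * g * (t * t) * y⁻¹ * t := by group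
        _ = t * (y * g * y⁻¹) * t := by rw [P.tt]; group
    have h1 := h (t * g * t)
    rw [e] at h1
    exact (P.swap g).trans (h1.trans (P.swap _).symm)

theorem norm_swap' {y : G} : y ∈ normalizer (A2 : Set G) ↔ t * y * t ∈ normalizer (A1 : Set G) := by
  rw [P.norm_swap (y := t * y * t), P.tct]

theorem cent_swap {y : G} : y ∈ centralizer (A1 : Set G) ↔ t * y * t ∈ centralizer (A2 : Set G) := by
  rw [mem_centralizer_iff, mem_centralizer_iff]
  constructor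
  · intro h g hg
    have h1 := h _ ((P.swap' g).1 hg)
    calc g * (t * y * t) = t * ((t * g * t) * y) * t := by
          calc g * (t * y * t) = (t * t) * g * (t * y * t) := by rw [P.tt, one_mul]
            _ = t * ((t * g * t) * y) * t := by group
      _ = t * (y * (t * g * t)) * t := by rw [h1]
      _ = (t * y * t) * (g * (t * t)) := by group
      _ = (t * y * t) * g := by rw [P.tt, mul_one]
  · intro h g hg
    have h1 := h _ ((P.swap g).1 hg)
    have h2 := congrArg (fun z => t * z * t) h1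
    simp only [← P.tmul] at h2
    rw [P.tct, P.tct] at h2
    exact h2

theorem S0_swap {y : G} (hy : y ∈ S0 A1 A2 S) : t * y * t ∈ S0 A1 A2 S := by
  rw [mem_S0] at hy ⊢
  exact ⟨mul_mem (mul_mem P.tS hy.1) P.tS, P.norm_swap'.1 hy.2.2, P.norm_swap.1 hy.2.1⟩

theorem S0_le : S0 A1 A2 S ≤ S := inf_le_left

theorem S0_n1 : S0 A1 A2 S ≤ normalizer (A1 : Set G) := fun _ h => (mem_S0.1 h).2.1

theorem S0_n2 : S0 A1 A2 S ≤ normalizer (A2 : Set G) := fun _ h => (mem_S0.1 h).2.2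

theorem x' {i j : Fin 3} (h : i ≠ j) (s : F) : t * fr2.x i j s * t = fr1.x i j s := by
  rw [← P.x i j h s, P.tct]

theorem fld_swap {f : G} {σ : F ≃+* F} (h : Fld fr1 f σ) : Fld fr2 (t * f * t) σ := by
  intro i j hij s
  rw [← P.x i j hij, ← P.x i j hij, ← h i j hij s, ← P.tinv, ← P.tmul, ← P.tmul]

theorem fld_swap' {f : G} {σ : F ≃+* F} (h : Fld fr2 f σ) : Fld fr1 (t * f * t) σ := by
  intro i j hij s
  rw [← P.x' hij, ← P.x' hij, ← h i j hij s, ← P.tinv, ← P.tmul, ← P.tmul]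

theorem grf_swap {f : G} {σ : F ≃+* F} (h : Grf fr1 f σ) : Grf fr2 (t * f * t) σ := by
  intro i j hij s
  have hr : j.rev ≠ i.rev := fun e => hij (Fin.rev_injective e).symm
  rw [← P.x i j hij, ← P.x _ _ hr, ← h i j hij s, ← P.tinv, ← P.tmul, ← P.tmul]

theorem grf_swap' {f : G} {σ : F ≃+* F} (h : Grf fr2 f σ) : Grf fr1 (t * f * t) σ := by
  intro i j hij s
  have hr : j.rev ≠ i.rev := fun e => hij (Fin.rev_injective e).symm
  rw [← P.x' hij, ← P.x' hr, ← h i j hij s, ← P.tinv, ← P.tmul, ← P.tmul]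

theorem u_swap (r s c : F) : t * u fr1 r s c * t = u fr2 r s c := by
  unfold u
  rw [P.tmul, P.tmul, P.x 0 1 (by decide), P.x 1 2 (by decide), P.x 0 2 (by decide)]

theorem u_swap' (r s c : F) : t * u fr2 r s c * t = u fr1 r s c := by
  rw [← P.u_swap, P.tct]

section Fin

variable [Finite G] [Finite F] [CharP F 2]

theorem U_swap {v : G} : v ∈ fr1.U ↔ t * v * t ∈ fr2.U := by
  rw [mem_U fr1 P.Z1, mem_U fr2 P.Z2]
  constructor
  · rintro ⟨r, s, c, rfl⟩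
    exact ⟨r, s, c, P.u_swap r s c⟩
  · rintro ⟨r, s, c, h⟩
    refine ⟨r, s, c, ?_⟩
    rw [← P.u_swap', ← h, P.tct]

theorem U_swap' {v : G} : v ∈ fr2.U ↔ t * v * t ∈ fr1.U := by
  rw [P.U_swap (v := t * v * t), P.tct]

theorem ft_swap {y : G} {σ : F ≃+* F} (h : FT fr1 y σ) : FT fr2 (t * y * t) σ := by
  obtain ⟨v, hv, h⟩ := h
  refine ⟨t * v * t, P.U_swap.1 hv, ?_⟩
  rw [← P.tmul]
  exact P.fld_swap h

theorem ft_swap' {y : G} {σ : F ≃+* F} (h : FT fr2 y σ) : FT fr1 (t * y * t) σ := by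
  obtain ⟨v, hv, h⟩ := h
  refine ⟨t * v * t, P.U_swap'.1 hv, ?_⟩
  rw [← P.tmul]
  exact P.fld_swap' h

theorem gt_swap {y : G} {σ : F ≃+* F} (h : GT fr1 y σ) : GT fr2 (t * y * t) σ := by
  obtain ⟨v, hv, h⟩ := h
  refine ⟨t * v * t, P.U_swap.1 hv, ?_⟩
  rw [← P.tmul]
  exact P.grf_swap h

theorem gt_swap' {y : G} {σ : F ≃+* F} (h : GT fr2 y σ) : GT fr1 (t * y * t) σ := by
  obtain ⟨v, hv, h⟩ := h
  refine ⟨t * v * t, P.U_swap'.1 hv, ?_⟩
  rw [← P.tmul]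
  exact P.grf_swap' h

/-- `S₀` is adapted to the second frame. -/
theorem ad2 : Adapted fr2 (S0 A1 A2 S) := by
  intro y hy
  obtain ⟨v, hv, σ, hσ, h⟩ := P.ad1 _ (P.S0_swap hy)
  refine ⟨t * v * t, P.U_swap.1 hv, σ, hσ, ?_⟩
  have e : t * (v * (t * y * t)) * t = t * v * t * y := by
    rw [P.tmul, P.tct]
  rcases h with h | h
  · left
    rw [← e]
    exact P.fld_swap h
  · right
    rw [← e]
    exact P.grf_swap h

omit [Finite G] [Finite F] [CharP F 2] in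
theorem cent1 {v : G} (hv : v ∈ A1) : v ∈ centralizer (A2 : Set G) := by
  rw [mem_centralizer_iff]
  intro g hg
  exact (P.comm v hv g hg).symm

omit [Finite G] [Finite F] [CharP F 2] in
theorem cent2 {v : G} (hv : v ∈ A2) : v ∈ centralizer (A1 : Set G) := by
  rw [mem_centralizer_iff]
  intro g hg
  exact P.comm g hg v hv

theorem U1_S0 : fr1.U ≤ S0 A1 A2 S := by
  intro v hv
  rw [mem_S0]
  refine ⟨P.U1 hv, le_normalizer (fr1.U_le hv), ?_⟩
  exact Subgroup.centralizer_le_normalizer _ (P.cent1 (fr1.U_le hv))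

theorem U2_S0 : fr2.U ≤ S0 A1 A2 S := by
  intro v hv
  have h1 := P.U1_S0 (P.U_swap'.1 hv)
  have h2 := P.S0_swap h1
  rwa [P.tct] at h2

/-- `U₁ U₂` -/
def Uh (_P : Pre t fr1 fr2 S) : Subgroup G where
  carrier := {g | ∃ a ∈ fr1.U, ∃ b ∈ fr2.U, g = a * b}
  one_mem' := ⟨1, one_mem _, 1, one_mem _, (one_mul 1).symm⟩
  mul_mem' := by
    rintro _ _ ⟨a, ha, b, hb, rfl⟩ ⟨a', ha', b', hb', rfl⟩
    refine ⟨a * a', mul_mem ha ha', b * b', mul_mem hb hb', ?_⟩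
    have h1 := _P.comm _ (fr1.U_le ha') _ (fr2.U_le hb)
    calc a * b * (a' * b') = a * (b * a') * b' := by group
      _ = a * (a' * b) * b' := by rw [h1]
      _ = a * a' * (b * b') := by group
  inv_mem' := by
    rintro _ ⟨a, ha, b, hb, rfl⟩
    refine ⟨a⁻¹, inv_mem ha, b⁻¹, inv_mem hb, ?_⟩
    rw [mul_inv_rev, _P.comm _ (inv_mem (fr1.U_le ha)) _ (inv_mem (fr2.U_le hb))]

omit [Finite G] [Finite F] [CharP F 2] in
theorem mem_Uh {g : G} : g ∈ P.Uh ↔ ∃ a ∈ fr1.U, ∃ b ∈ fr2.U, g = a * b := Iff.rfl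

omit [Finite G] [Finite F] [CharP F 2] in
theorem U1_le : fr1.U ≤ P.Uh := fun v hv => ⟨v, hv, 1, one_mem _, (mul_one v).symm⟩

omit [Finite G] [Finite F] [CharP F 2] in
theorem U2_le : fr2.U ≤ P.Uh := fun v hv => ⟨1, one_mem _, v, hv, (one_mul v).symm⟩

theorem Uh_S0 : P.Uh ≤ S0 A1 A2 S := by
  rintro _ ⟨a, ha, b, hb, rfl⟩
  exact mul_mem (P.U1_S0 ha) (P.U2_S0 hb)

/-- elements of trivial type -/
theorem mem_Uh_of_ft {y : G} (hy : y ∈ S0 A1 A2 S) (h1 : FT fr1 y 1) (h2 : FT fr2 y 1) : y ∈ P.Uh := by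
  obtain ⟨v, hv, hc⟩ := FT.exists_of_one P.Z1 P.p1 (P.S0_n1 hy) h1
  obtain ⟨w, hw, hd⟩ := FT.exists_of_one P.Z2 P.p2 (P.S0_n2 hy) h2
  have h3 : w⁻¹ * (v⁻¹ * y) = 1 := by
    apply P.triv
    · exact mul_mem (inv_mem (P.S0_le (P.U2_S0 hw))) (mul_mem (inv_mem (P.U1 hv)) (P.S0_le hy))
    · exact mul_mem (inv_mem (P.cent2 (fr2.U_le hw))) hc
    · have e : w⁻¹ * (v⁻¹ * y) = v⁻¹ * (w⁻¹ * y) := by
        rw [← mul_assoc, ← mul_assoc, P.comm _ (inv_mem (fr1.U_le hv)) _ (inv_mem (fr2.U_le hw))]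
      rw [e]
      exact mul_mem (inv_mem (P.cent1 (fr1.U_le hv))) hd
  refine ⟨v, hv, w, hw, ?_⟩
  rw [inv_mul_eq_one] at h3
  rw [h3, mul_inv_cancel_left]

theorem inter {v : G} (h1 : v ∈ fr1.U) (h2 : v ∈ fr2.U) : v = 1 :=
  P.triv v (P.U1 h1) (P.cent2 (fr2.U_le h2)) (P.cent1 (fr1.U_le h1))

/-- uniqueness of the components -/
theorem comp_unique {a a' b b' : G} (ha : a ∈ fr1.U) (ha' : a' ∈ fr1.U) (hb : b ∈ fr2.U) (hb' : b' ∈ fr2.U)
    (h : a * b = a' * b') : a = a' ∧ b = b' := by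
  have h1 : a'⁻¹ * a = b' * b⁻¹ := by
    rw [inv_mul_eq_iff_eq_mul, ← mul_assoc, ← h, mul_inv_cancel_right]
  have h2 := P.inter (mul_mem (inv_mem ha') ha) (by rw [h1]; exact mul_mem hb' (inv_mem hb))
  rw [inv_mul_eq_one] at h2
  subst h2
  exact ⟨rfl, mul_left_cancel h⟩

theorem not_S0 {y : G} (hy : y ∈ S) (h : y ∉ S0 A1 A2 S) : t * y ∈ S0 A1 A2 S := (P.perm y hy).resolve_left h

theorem U1_normal {y v : G} (hy : y ∈ S0 A1 A2 S) (hv : v ∈ fr1.U) : y * v * y⁻¹ ∈ fr1.U := by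
  rcases P.ad1.cases hy with ⟨σ, h⟩ | ⟨σ, h⟩
  · exact h.norm P.Z1 hv
  · exact h.norm P.Z1 hv

theorem U2_normal {y v : G} (hy : y ∈ S0 A1 A2 S) (hv : v ∈ fr2.U) : y * v * y⁻¹ ∈ fr2.U := by
  rcases P.ad2.cases hy with ⟨σ, h⟩ | ⟨σ, h⟩
  · exact h.norm P.Z2 hv
  · exact h.norm P.Z2 hv

/-- swapping elements -/
theorem swap_A1 {y a : G} (hy : t * y ∈ S0 A1 A2 S) (ha : a ∈ A1) : y * a * y⁻¹ ∈ A2 := by
  have h1 := (mem_normalizer_iff.1 (P.S0_n1 hy) a).1 ha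
  have h2 := (P.swap _).1 h1
  have e : t * (t * y * a * (t * y)⁻¹) * t = y * a * y⁻¹ := by
    rw [mul_inv_rev, P.ti]
    calc t * (t * y * a * (y⁻¹ * t)) * t = (t * t) * (y * a * y⁻¹) * (t * t) := by group
      _ = y * a * y⁻¹ := by rw [P.tt]; group
  rwa [e] at h2

theorem swap_A2 {y a : G} (hy : t * y ∈ S0 A1 A2 S) (ha : a ∈ A2) : y * a * y⁻¹ ∈ A1 := by
  have h1 := (mem_normalizer_iff.1 (P.S0_n2 hy) a).1 ha
  have h2 := (P.swap' _).1 h1
  have e : t * (t * y * a * (t * y)⁻¹) * t = y * a * y⁻¹ := by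
    rw [mul_inv_rev, P.ti]
    calc t * (t * y * a * (y⁻¹ * t)) * t = (t * t) * (y * a * y⁻¹) * (t * t) := by group
      _ = y * a * y⁻¹ := by rw [P.tt]; group
  rwa [e] at h2

theorem swap_U1 {y a : G} (hy : t * y ∈ S0 A1 A2 S) (ha : a ∈ fr1.U) : y * a * y⁻¹ ∈ fr2.U := by
  have h1 := P.U1_normal hy ha
  have h2 := P.U_swap.1 h1
  have e : t * (t * y * a * (t * y)⁻¹) * t = y * a * y⁻¹ := by
    rw [mul_inv_rev, P.ti]
    calc t * (t * y * a * (y⁻¹ * t)) * t = (t * t) * (y * a * y⁻¹) * (t * t) := by group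
      _ = y * a * y⁻¹ := by rw [P.tt]; group
  rwa [e] at h2

theorem swap_U2 {y a : G} (hy : t * y ∈ S0 A1 A2 S) (ha : a ∈ fr2.U) : y * a * y⁻¹ ∈ fr1.U := by
  have h1 := P.U2_normal hy ha
  have h2 := P.U_swap'.1 h1
  have e : t * (t * y * a * (t * y)⁻¹) * t = y * a * y⁻¹ := by
    rw [mul_inv_rev, P.ti]
    calc t * (t * y * a * (y⁻¹ * t)) * t = (t * t) * (y * a * y⁻¹) * (t * t) := by group
      _ = y * a * y⁻¹ := by rw [P.tt]; group
  rwa [e] at h2

/-- the inverse of a swapping element is swapping -/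
theorem swap_inv {y : G} (hy : t * y ∈ S0 A1 A2 S) : t * y⁻¹ ∈ S0 A1 A2 S := by
  have h1 := inv_mem (P.S0_swap hy)
  have e : (t * (t * y) * t)⁻¹ = t * y⁻¹ := by
    rw [← mul_assoc, P.tt, one_mul, mul_inv_rev, P.ti]
  rwa [e] at h1

theorem not_S0_of_swap {y : G} (hy : t * y ∈ S0 A1 A2 S) : y ∉ S0 A1 A2 S := by
  intro h
  have h1 : fr1.x 0 2 1 ∈ fr1.U := fr1.x_mem_U (by decide) 1
  have h2 := P.inter (P.U1_normal h h1) (P.swap_U1 hy h1)
  have h3 : fr1.x 0 2 1 = 1 := by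
    have := mul_inv_eq_one.1 h2
    exact mul_eq_left.1 this
  rw [fr1.x_eq_one P.Z1 (by decide)] at h3
  exact one_ne_zero h3

/-- **Elementary abelian subgroups of `S` of order at least `q⁴` lie in `Uh`.** -/
theorem je {X : Subgroup G} (hXS : X ≤ S) (hXc : ∀ x ∈ X, ∀ y ∈ X, x * y = y * x) (hX2 : ∀ x ∈ X, x * x = 1)
    (hcard : Nat.card F ^ 4 ≤ Nat.card X) : X ≤ P.Uh := by
  classical
  have hq := P.four
  set q := Nat.card F with hqd
  -- the bound for a subgroup of `S₀`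
  have hb1 : ∀ Y : Subgroup G, Y ≤ S0 A1 A2 S → Y ≤ X →
      Nat.card Y ≤ Nat.card (Y ⊓ centralizer (A1 : Set G) : Subgroup G) * q ^ 2 := fun Y hY hYX =>
    Elem.card_le (fr := fr1) P.Z1 P.p1 (fun y hy => P.S0_n1 (hY hy)) (fun y hy => P.ad1.cases (hY hy))
      (fun x hx y hy => hXc x (hYX hx) y (hYX hy)) (fun x hx => hX2 x (hYX hx)) hq
  have hb2 : ∀ Y : Subgroup G, Y ≤ S0 A1 A2 S → Y ≤ X →
      Nat.card Y ≤ Nat.card (Y ⊓ centralizer (A2 : Set G) : Subgroup G) * q ^ 2 := fun Y hY hYX =>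
    Elem.card_le (fr := fr2) P.Z2 P.p2 (fun y hy => P.S0_n2 (hY hy)) (fun y hy => P.ad2.cases (hY hy))
      (fun x hx y hy => hXc x (hYX hx) y (hYX hy)) (fun x hx => hX2 x (hYX hx)) hq
  by_cases hsw : ∃ x ∈ X, x ∉ S0 A1 A2 S
  · exfalso
    obtain ⟨x, hx, hxn⟩ := hsw
    have htx := P.not_S0 (hXS hx) hxn
    have h1 : Nat.card X ≤ 2 * Nat.card (X ⊓ S0 A1 A2 S : Subgroup G) := by
      have e1 : Nat.card X = (X : Set G).ncard := rfl
      have e2 : Nat.card (X ⊓ S0 A1 A2 S : Subgroup G) = ((X ⊓ S0 A1 A2 S : Subgroup G) : Set G).ncard := rfl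
      rw [e1, e2]
      apply ncard_le_two x
      intro y hy
      by_cases h : y ∈ S0 A1 A2 S
      · exact Or.inl (mem_inf.2 ⟨hy, h⟩)
      · right
        have h2 := P.not_S0 (hXS hy) h
        have e : x⁻¹ * y = (t * x)⁻¹ * (t * y) := by group
        exact mem_inf.2 ⟨mul_mem (inv_mem hx) hy, by rw [e]; exact mul_mem (inv_mem htx) h2⟩
    have h2 := hb1 _ (inf_le_right : X ⊓ S0 A1 A2 S ≤ _) inf_le_left
    have h3 : (X ⊓ S0 A1 A2 S ⊓ centralizer (A1 : Set G) : Subgroup G) = ⊥ := by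
      rw [eq_bot_iff]
      intro y hy
      obtain ⟨hy1, hyc⟩ := mem_inf.1 hy
      obtain ⟨hyX, hy0⟩ := mem_inf.1 hy1
      rw [mem_bot]
      apply P.triv y (hXS hyX) hyc
      rw [mem_centralizer_iff]
      intro b hb
      have h4 : x⁻¹ * b * x ∈ A1 := by
        have := P.swap_A2 (P.swap_inv htx) hb
        rwa [inv_inv] at this
      have h5 := mem_centralizer_iff.1 hyc _ h4
      have h6 := hXc x hx y hyX
      calc b * y = x * ((x⁻¹ * b * x) * (x⁻¹ * y * x)) * x⁻¹ := by group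
        _ = x * ((x⁻¹ * b * x) * y) * x⁻¹ := by
          have : x⁻¹ * y * x = y := by rw [mul_assoc, ← h6, inv_mul_cancel_left]
          rw [this]
        _ = x * (y * (x⁻¹ * b * x)) * x⁻¹ := by rw [h5]
        _ = (x * y * x⁻¹) * b := by group
        _ = y * b := by rw [h6, mul_inv_cancel_right]
    rw [h3, card_bot, one_mul] at h2
    have h4 : q ^ 4 ≤ 2 * q ^ 2 := by omega
    have h5 : q ^ 4 = q ^ 2 * q ^ 2 := by ring
    rw [h5] at h4
    have h6 : q ^ 2 ≤ 2 := Nat.le_of_mul_le_mul_right h4 (by positivity)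
    have h7 : 4 * 4 ≤ q ^ 2 := by rw [pow_two]; exact Nat.mul_le_mul hq hq
    omega
  · push Not at hsw
    have hX0 : X ≤ S0 A1 A2 S := fun x hx => hsw x hx
    have hbot : ∀ Y : Subgroup G, Y ≤ X → ∀ (h1 : Y ≤ centralizer (A1 : Set G)) (h2 : Y ≤ centralizer (A2 : Set G)),
        Nat.card Y = 1 := by
      intro Y hY h1 h2
      have : Y = ⊥ := by
        rw [eq_bot_iff]
        intro y hy
        rw [mem_bot]
        exact P.triv y (hXS (hY hy)) (h1 hy) (h2 hy)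
      rw [this, card_bot]
    have hfin : ¬ (q ^ 4 ≤ q ^ 2 * (2 * q)) := by
      intro h
      have h5 : q ^ 4 = (q ^ 2 * q) * q := by ring
      have h6 : q ^ 2 * (2 * q) = (q ^ 2 * q) * 2 := by ring
      rw [h5, h6] at h
      have := Nat.le_of_mul_le_mul_left h (by positivity)
      omega
    by_cases h1 : ∃ y ∈ X, ¬ FT fr1 y 1
    · exfalso
      obtain ⟨y, hy, hn⟩ := h1
      have h2 := Elem.card_le_of_outer (fr := fr1) P.Z1 P.p1 (fun y hy => P.S0_n1 (hX0 hy))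
        (fun y hy => P.ad1.cases (hX0 hy)) hXc hX2 hq hy hn
      have h3 := hb2 (X ⊓ centralizer (A1 : Set G)) (inf_le_left.trans hX0) inf_le_left
      rw [hbot _ (inf_le_left.trans inf_le_left) (inf_le_left.trans inf_le_right) inf_le_right, one_mul] at h3
      exact hfin (hcard.trans (h2.trans (Nat.mul_le_mul_right _ h3)))
    by_cases h2 : ∃ y ∈ X, ¬ FT fr2 y 1
    · exfalso
      obtain ⟨y, hy, hn⟩ := h2
      have h2 := Elem.card_le_of_outer (fr := fr2) P.Z2 P.p2 (fun y hy => P.S0_n2 (hX0 hy))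
        (fun y hy => P.ad2.cases (hX0 hy)) hXc hX2 hq hy hn
      have h3 := hb1 (X ⊓ centralizer (A2 : Set G)) (inf_le_left.trans hX0) inf_le_left
      rw [hbot _ (inf_le_left.trans inf_le_left) inf_le_right (inf_le_left.trans inf_le_right), one_mul] at h3
      exact hfin (hcard.trans (h2.trans (Nat.mul_le_mul_right _ h3)))
    push Not at h1 h2
    intro y hy
    exact P.mem_Uh_of_ft (hX0 hy) (h1 y hy) (h2 y hy)

end Fin

end Pre

end Cfsg.Agent.StdRank2.L3WJ
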