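import Mathlib
import Cfsg.Agent.StdRank2.L3WJ.Je

/-!
# Type `L₃(q)`, the wreath case: `Uh = U₁ U₂` is weakly closed; its normaliser permutes `Z(U₁)`, `Z(U₂)`

* `Pre.weak` : `Uh ^ g ≤ S` implies `Uh ^ g ≤ Uh`;
* `Pre.center_perm` : if `n` normalises `Uh`, then `n z n⁻¹ ∈ Z(U₁) ∪ Z(U₂)` for `z ∈ Z(U₁)`.
-/

set_option autoImplicit false

namespace Cfsg.Agent.StdRank2.L3WJ

open Subgroup Cfsg.Agent.StdRank2.OutL3Rel Cfsg.Agent.StdRank2.OutField Cfsg.Agent.StdRank2.OutL3Inv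
  Cfsg.Agent.StdRank2.OutL3Je Cfsg.Agent.StdRank2.OutL3JeMain

variable {G : Type*} [Group G] {F : Type*} [Field F] {t : G} {A1 A2 : Subgroup G} {fr1 : FrameL3 A1 F}
  {fr2 : FrameL3 A2 F} {S : Subgroup G}

namespace Pre

variable (P : Pre t fr1 fr2 S)

/-- The product of subgroups of `A₁` and `A₂`. -/
def pr (P : Pre t fr1 fr2 S) (R1 R2 : Subgroup G) (h1 : R1 ≤ A1) (h2 : R2 ≤ A2) : Subgroup G where
  carrier := {g | ∃ a ∈ R1, ∃ b ∈ R2, g = a * b}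
  one_mem' := ⟨1, one_mem _, 1, one_mem _, (one_mul 1).symm⟩
  mul_mem' := by
    rintro _ _ ⟨a, ha, b, hb, rfl⟩ ⟨a', ha', b', hb', rfl⟩
    refine ⟨a * a', mul_mem ha ha', b * b', mul_mem hb hb', ?_⟩
    have h3 := P.comm _ (h1 ha') _ (h2 hb)
    calc a * b * (a' * b') = a * (b * a') * b' := by group
      _ = a * (a' * b) * b' := by rw [h3]
      _ = a * a' * (b * b') := by group
  inv_mem' := by
    rintro _ ⟨a, ha, b, hb, rfl⟩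
    refine ⟨a⁻¹, inv_mem ha, b⁻¹, inv_mem hb, ?_⟩
    rw [mul_inv_rev, P.comm _ (inv_mem (h1 ha)) _ (inv_mem (h2 hb))]

theorem mem_pr {R1 R2 : Subgroup G} {h1 : R1 ≤ A1} {h2 : R2 ≤ A2} {g : G} :
    g ∈ P.pr R1 R2 h1 h2 ↔ ∃ a ∈ R1, ∃ b ∈ R2, g = a * b := Iff.rfl

variable [Finite G] [Finite F] [CharP F 2]

theorem card_pr {R1 R2 : Subgroup G} (h1 : R1 ≤ fr1.U) (h2 : R2 ≤ fr2.U) :
    Nat.card R1 * Nat.card R2 ≤ Nat.card (P.pr R1 R2 (h1.trans fr1.U_le) (h2.trans fr2.U_le)) := by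
  rw [← Nat.card_prod]
  apply Nat.card_le_card_of_injective
    (fun p : R1 × R2 => (⟨p.1 * p.2, p.1, p.1.2, p.2, p.2.2, rfl⟩ :
      P.pr R1 R2 (h1.trans fr1.U_le) (h2.trans fr2.U_le)))
  rintro ⟨⟨a, ha⟩, ⟨b, hb⟩⟩ ⟨⟨a', ha'⟩, ⟨b', hb'⟩⟩ h
  obtain ⟨e1, e2⟩ := P.comp_unique (h1 ha) (h1 ha') (h2 hb) (h2 hb') (congrArg Subtype.val h)
  exact Prod.ext (Subtype.ext e1) (Subtype.ext e2)

/-- weak closure for a product -/
theorem weak_pr {R1 R2 : Subgroup G} (h1 : R1 ≤ fr1.U) (h2 : R2 ≤ fr2.U) (hs1 : ∀ x ∈ R1, x * x = 1)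
    (hs2 : ∀ x ∈ R2, x * x = 1) (hc1 : Nat.card R1 = Nat.card F ^ 2) (hc2 : Nat.card R2 = Nat.card F ^ 2) {g : G}
    (hg : ∀ x ∈ P.Uh, g * x * g⁻¹ ∈ S) :
    (∀ x ∈ R1, g * x * g⁻¹ ∈ P.Uh) ∧ ∀ x ∈ R2, g * x * g⁻¹ ∈ P.Uh := by
  set E := P.pr R1 R2 (h1.trans fr1.U_le) (h2.trans fr2.U_le) with hE
  have hEU : E ≤ P.Uh := by
    rintro _ ⟨a, ha, b, hb, rfl⟩
    exact ⟨a, h1 ha, b, h2 hb, rfl⟩
  have hE2 : ∀ x ∈ E, x * x = 1 := by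
    rintro _ ⟨a, ha, b, hb, rfl⟩
    have h3 := P.comm a (fr1.U_le (h1 ha)) b (fr2.U_le (h2 hb))
    calc a * b * (a * b) = a * (b * a) * b := by group
      _ = a * (a * b) * b := by rw [h3]
      _ = (a * a) * (b * b) := by group
      _ = 1 := by rw [hs1 a ha, hs2 b hb, one_mul]
  have hcard : Nat.card F ^ 4 ≤ Nat.card (E.map (MulAut.conj g).toMonoidHom) := by
    rw [Subgroup.card_map_of_injective (MulEquiv.injective _)]
    have := P.card_pr h1 h2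
    rw [hc1, hc2, ← pow_add] at this
    exact this
  have hX2 : ∀ x ∈ E.map (MulAut.conj g).toMonoidHom, x * x = 1 := by
    rintro _ ⟨a, ha, rfl⟩
    show g * a * g⁻¹ * (g * a * g⁻¹) = 1
    calc g * a * g⁻¹ * (g * a * g⁻¹) = g * (a * a) * g⁻¹ := by group
      _ = 1 := by rw [hE2 a ha]; group
  have hle := P.je (X := E.map (MulAut.conj g).toMonoidHom) (by
    rintro _ ⟨a, ha, rfl⟩
    exact hg a (hEU ha)) (fun x hx y hy => FrameL3.comm_of_sq hX2 hx hy) hX2 hcard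
  constructor
  · intro x hx
    exact hle ⟨x, ⟨x, hx, 1, one_mem _, (mul_one x).symm⟩, rfl⟩
  · intro x hx
    exact hle ⟨x, ⟨1, one_mem _, x, hx, (one_mul x).symm⟩, rfl⟩

/-- **`Uh` is weakly closed in `S`.** -/
theorem weak {g : G} (hg : ∀ x ∈ P.Uh, g * x * g⁻¹ ∈ S) : ∀ x ∈ P.Uh, g * x * g⁻¹ ∈ P.Uh := by
  obtain ⟨r1, r2⟩ := P.weak_pr fr1.Row_zero_le_U fr2.Row_zero_le_U (fun x hx => fr1.Row_sq P.Z1 hx)
    (fun x hx => fr2.Row_sq P.Z2 hx) (fr1.card_Row P.Z1 0) (fr2.card_Row P.Z2 0) hg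
  obtain ⟨c1, c2⟩ := P.weak_pr fr1.Col_two_le_U fr2.Col_two_le_U (fun x hx => fr1.Col_sq P.Z1 hx)
    (fun x hx => fr2.Col_sq P.Z2 hx) (fr1.card_Col P.Z1 2) (fr2.card_Col P.Z2 2) hg
  have hu1 : ∀ x ∈ fr1.U, g * x * g⁻¹ ∈ P.Uh := by
    intro x hx
    obtain ⟨r, s, c, rfl⟩ := (mem_U fr1 P.Z1).1 hx
    have h1 := r1 _ (fr1.x_mem_Row (i := 0) (j := 1) (by decide) r)
    have h2 := c1 _ (fr1.x_mem_Col (i := 1) (j := 2) (by decide) s)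
    have h3 := r1 _ (fr1.x_mem_Row (i := 0) (j := 2) (by decide) (c - r * s))
    have e : g * u fr1 r s c * g⁻¹ = (g * fr1.x 0 1 r * g⁻¹) * (g * fr1.x 1 2 s * g⁻¹) *
        (g * fr1.x 0 2 (c - r * s) * g⁻¹) := by
      unfold u
      group
    rw [e]
    exact mul_mem (mul_mem h1 h2) h3
  have hu2 : ∀ x ∈ fr2.U, g * x * g⁻¹ ∈ P.Uh := by
    intro x hx
    obtain ⟨r, s, c, rfl⟩ := (mem_U fr2 P.Z2).1 hx
    have h1 := r2 _ (fr2.x_mem_Row (i := 0) (j := 1) (by decide) r)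
    have h2 := c2 _ (fr2.x_mem_Col (i := 1) (j := 2) (by decide) s)
    have h3 := r2 _ (fr2.x_mem_Row (i := 0) (j := 2) (by decide) (c - r * s))
    have e : g * u fr2 r s c * g⁻¹ = (g * fr2.x 0 1 r * g⁻¹) * (g * fr2.x 1 2 s * g⁻¹) *
        (g * fr2.x 0 2 (c - r * s) * g⁻¹) := by
      unfold u
      group
    rw [e]
    exact mul_mem (mul_mem h1 h2) h3
  rintro _ ⟨a, ha, b, hb, rfl⟩
  have e : g * (a * b) * g⁻¹ = (g * a * g⁻¹) * (g * b * g⁻¹) := by group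
  rw [e]
  exact mul_mem (hu1 a ha) (hu2 b hb)

omit [Finite F] [CharP F 2] in
/-- the inverse also normalises -/
theorem inv_normal {n : G} (hn : ∀ x ∈ P.Uh, n * x * n⁻¹ ∈ P.Uh) : ∀ x ∈ P.Uh, n⁻¹ * x * n ∈ P.Uh := by
  intro x hx
  have h1 : P.Uh.map (MulAut.conj n).toMonoidHom ≤ P.Uh := by
    rintro _ ⟨a, ha, rfl⟩
    exact hn a ha
  have h2 : P.Uh.map (MulAut.conj n).toMonoidHom = P.Uh := by
    apply Subgroup.eq_of_le_of_card_ge h1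
    rw [Subgroup.card_map_of_injective (MulEquiv.injective _)]
  rw [← h2] at hx
  obtain ⟨a, ha, rfl⟩ := hx
  have : n⁻¹ * (MulAut.conj n).toMonoidHom a * n = a := by
    show n⁻¹ * (n * a * n⁻¹) * n = a
    group
  rw [this]
  exact ha

omit P in
/-- commutators in `U` -/
theorem comm_u {A : Subgroup G} (fr : FrameL3 A F) (hZ : Odd (Nat.card (center ↥A))) (r s c r' s' c' : F) :
    u fr r s c * u fr r' s' c' * (u fr r s c)⁻¹ * (u fr r' s' c')⁻¹ = u fr 0 0 (r * s' + r' * s) := by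
  rw [mul_inv_eq_iff_eq_mul, mul_inv_eq_iff_eq_mul, u_mul fr hZ, u_mul fr hZ, u_mul fr hZ]
  congr 1
  · ring
  · ring
  · have h1 : r' * s + r' * s = 0 := CharTwo.add_self_eq_zero _
    linear_combination -h1

include P in
/-- commutators in `Uh` -/
theorem comm_uu (r s c r' s' c' p q d p' q' d' : F) :
    (u fr1 r s c * u fr2 p q d) * (u fr1 r' s' c' * u fr2 p' q' d') * (u fr1 r s c * u fr2 p q d)⁻¹ *
      (u fr1 r' s' c' * u fr2 p' q' d')⁻¹ =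
    u fr1 0 0 (r * s' + r' * s) * u fr2 0 0 (p * q' + p' * q) := by
  have hc : ∀ (r s c p q d : F), u fr1 r s c * u fr2 p q d = u fr2 p q d * u fr1 r s c := fun r s c p q d =>
    P.comm _ (fr1.U_le (u_mem fr1 r s c)) _ (fr2.U_le (u_mem fr2 p q d))
  rw [← comm_u fr1 P.Z1 r s c r' s' c', ← comm_u fr2 P.Z2 p q d p' q' d']
  set a := u fr1 r s c
  set b := u fr2 p q d
  set a' := u fr1 r' s' c'
  set b' := u fr2 p' q' d'
  have h1 : Commute a b := hc ..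
  have h2 : Commute a b' := hc ..
  have h3 : Commute a' b := hc ..
  have h4 : Commute a' b' := hc ..
  calc a * b * (a' * b') * (a * b)⁻¹ * (a' * b')⁻¹ = a * (b * a') * b' * (b⁻¹ * a⁻¹) * (b'⁻¹ * a'⁻¹) := by group
    _ = a * (a' * b) * b' * (a⁻¹ * b⁻¹) * (a'⁻¹ * b'⁻¹) := by
      rw [h3.eq, h1.inv_inv.eq.symm, h4.inv_inv.eq.symm]
    _ = a * a' * (b * b' * a⁻¹) * (b⁻¹ * a'⁻¹) * b'⁻¹ := by group
    _ = a * a' * (a⁻¹ * (b * b')) * (a'⁻¹ * b⁻¹) * b'⁻¹ := by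
      rw [((h1.mul_right h2).inv_left).eq.symm, (h3.inv_inv).eq]
    _ = a * a' * a⁻¹ * (b * b' * a'⁻¹) * b⁻¹ * b'⁻¹ := by group
    _ = a * a' * a⁻¹ * (a'⁻¹ * (b * b')) * b⁻¹ * b'⁻¹ := by
      rw [((h3.mul_right h4).inv_left).eq.symm]
    _ = a * a' * a⁻¹ * a'⁻¹ * (b * b' * b⁻¹ * b'⁻¹) := by group

theorem mem_Uh_iff {g : G} : g ∈ P.Uh ↔ ∃ r s c p q d, g = u fr1 r s c * u fr2 p q d := by
  rw [P.mem_Uh]
  constructor
  · rintro ⟨a, ha, b, hb, rfl⟩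
    obtain ⟨r, s, c, rfl⟩ := (mem_U fr1 P.Z1).1 ha
    obtain ⟨p, q, d, rfl⟩ := (mem_U fr2 P.Z2).1 hb
    exact ⟨r, s, c, p, q, d, rfl⟩
  · rintro ⟨r, s, c, p, q, d, rfl⟩
    exact ⟨_, u_mem fr1 _ _ _, _, u_mem fr2 _ _ _, rfl⟩

/-- **The normaliser of `Uh` permutes `Z(U₁)` and `Z(U₂)`.** -/
theorem center_perm {n : G} (hn : ∀ x ∈ P.Uh, n * x * n⁻¹ ∈ P.Uh) (c : F) :
    (∃ c', n * u fr1 0 0 c * n⁻¹ = u fr1 0 0 c') ∨ ∃ c', n * u fr1 0 0 c * n⁻¹ = u fr2 0 0 c' := by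
  classical
  have hni := P.inv_normal hn
  have hcon : ∀ x y : G, n * (x * y * x⁻¹ * y⁻¹) * n⁻¹ =
      (n * x * n⁻¹) * (n * y * n⁻¹) * (n * x * n⁻¹)⁻¹ * (n * y * n⁻¹)⁻¹ := by
    intro x y; group
  have h0 : u fr2 0 0 0 = 1 := u_zero fr2 P.Z2
  have h0' : u fr1 0 0 0 = 1 := u_zero fr1 P.Z1
  have hx : u fr1 1 0 0 ∈ P.Uh := P.U1_le (u_mem fr1 1 0 0)
  obtain ⟨r, s, e, p, q, d, hxe⟩ := P.mem_Uh_iff.1 (hn _ hx)
  have hz : u fr1 0 0 c = u fr1 1 0 0 * u fr1 0 c 0 * (u fr1 1 0 0)⁻¹ * (u fr1 0 c 0)⁻¹ := by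
    rw [comm_u fr1 P.Z1]
    congr 1
    ring
  obtain ⟨r', s', e', p', q', d', hye⟩ := P.mem_Uh_iff.1 (hn _ (P.U1_le (u_mem fr1 0 c 0)))
  have hnz : n * u fr1 0 0 c * n⁻¹ = u fr1 0 0 (r * s' + r' * s) * u fr2 0 0 (p * q' + p' * q) := by
    rw [hz, hcon, hxe, hye, P.comm_uu]
  by_cases h1 : r = 0 ∧ s = 0
  · right
    refine ⟨p * q' + p' * q, ?_⟩
    rw [hnz, h1.1, h1.2, zero_mul, mul_zero, add_zero, h0', one_mul]
  by_cases h2 : p = 0 ∧ q = 0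
  · left
    refine ⟨r * s' + r' * s, ?_⟩
    rw [hnz, h2.1, h2.2, zero_mul, mul_zero, add_zero, h0, mul_one]
  exfalso
  -- every element of `Z(U₁) Z(U₂)` is a commutator
  have hsol : ∀ (r s : F), ¬ (r = 0 ∧ s = 0) → ∀ a : F, ∃ r' s', r * s' + r' * s = a := by
    intro r s h a
    by_cases hr : r = 0
    · have hs : s ≠ 0 := fun hs => h ⟨hr, hs⟩
      exact ⟨a * s⁻¹, 0, by rw [mul_zero, zero_add, inv_mul_cancel_right₀ hs]⟩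
    · exact ⟨0, r⁻¹ * a, by rw [zero_mul, add_zero, mul_inv_cancel_left₀ hr]⟩
  have key : ∀ a b : F, ∃ k : F, n⁻¹ * (u fr1 0 0 a * u fr2 0 0 b) * n = u fr1 0 0 k := by
    intro a b
    obtain ⟨r1, s1, h3⟩ := hsol r s h1 a
    obtain ⟨p1, q1, h4⟩ := hsol p q h2 b
    have h5 : u fr1 r1 s1 0 * u fr2 p1 q1 0 ∈ P.Uh := ⟨_, u_mem fr1 _ _ _, _, u_mem fr2 _ _ _, rfl⟩
    obtain ⟨r2, s2, c2, p2, q2, d2, h6⟩ := P.mem_Uh_iff.1 (hni _ h5)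
    have h7 : n * (u fr1 r2 s2 c2 * u fr2 p2 q2 d2) * n⁻¹ = u fr1 r1 s1 0 * u fr2 p1 q1 0 := by
      rw [← h6]; group
    have h8 := hcon (u fr1 1 0 0) (u fr1 r2 s2 c2 * u fr2 p2 q2 d2)
    rw [h7, hxe, P.comm_uu, h3, h4] at h8
    have h9 : u fr1 1 0 0 = u fr1 1 0 0 * u fr2 0 0 0 := by rw [h0, mul_one]
    have h10 : (0 : F) * q2 + p2 * 0 = 0 := by ring
    rw [h9, P.comm_uu, h10, h0, mul_one] at h8
    exact ⟨1 * s2 + r2 * 0, by rw [← h8]; group⟩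
  choose k hk using key
  have hinj : Function.Injective (fun p : F × F => k p.1 p.2) := by
    rintro ⟨a, b⟩ ⟨a', b'⟩ h
    have h3 : u fr1 0 0 a * u fr2 0 0 b = u fr1 0 0 a' * u fr2 0 0 b' := by
      have h4 := (hk a b).trans ((congrArg (fun z => u fr1 0 0 z) h).trans (hk a' b').symm)
      have h5 := congrArg (fun z => n * z * n⁻¹) h4
      have e1 : ∀ z : G, n * (n⁻¹ * z * n) * n⁻¹ = z := fun z => by group
      simpa only [e1] using h5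
    obtain ⟨h4, h5⟩ := P.comp_unique (u_mem fr1 _ _ _) (u_mem fr1 _ _ _) (u_mem fr2 _ _ _) (u_mem fr2 _ _ _) h3
    exact Prod.ext (u_inj fr1 h4).2.2 (u_inj fr2 h5).2.2
  have h3 := Nat.card_le_card_of_injective _ hinj
  rw [Nat.card_prod] at h3
  have h4 := P.four
  have h5 : Nat.card F * 1 < Nat.card F * Nat.card F := Nat.mul_lt_mul_of_pos_left (by omega) (by omega)
  omega

end Pre

end Cfsg.Agent.StdRank2.L3WJ
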