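import Mathlib
import Cfsg.Agent.StdRank2.L3WJ.Weak

/-!
# Type `L₃(q)`, the wreath case: involutions of type I

`Dc t x` : some conjugate of `t` commutes with `x`. `S` is a Sylow 2-subgroup of `G`, `Pre t fr1 fr2 S`, and no conjugate
of `t` lies in `S₀`.

* `no_comm` : no conjugate of `t` commutes with an involution of `A₁` or `A₂`;
* `mixed` : the products `b₁ b₂` of involutions `b_i ∈ A_i` commute with a conjugate of `t`;
* `diag` : so do the involutions of `S₀` which commute with an element of `S ∖ S₀`;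
* `swap_no` : no involution of `S ∖ S₀` is conjugate to an involution of `A₁`;
* `main` : `z = x₀₂(1)` commutes with `S₀` and no conjugate of `z` in `S` commutes with an element of `S ∖ S₀`.
-/

set_option autoImplicit false

namespace Cfsg.Agent.StdRank2.L3WJ

open Subgroup Cfsg.Agent.StdRank2.OutL3Rel Cfsg.Agent.StdRank2.OutField Cfsg.Agent.StdRank2.OutL3Inv
  Cfsg.Agent.StdRank2.OutL3Je Cfsg.Agent.StdRank2.OutL3JeMain

section General

variable {G : Type*} [Group G] [Finite G]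

/-- Two 2-subgroups of `C`, up to conjugation in `C` and `G` in a given Sylow subgroup. -/
theorem exists_common {C U D : Subgroup G} (hU : IsPGroup 2 U) (hUC : U ≤ C) (hD : IsPGroup 2 D) (hDC : D ≤ C)
    (S : Sylow 2 G) : ∃ c ∈ C, ∃ h : G, (∀ x ∈ U, h * x * h⁻¹ ∈ (S : Subgroup G)) ∧
      ∀ x ∈ D, h * (c * x * c⁻¹) * h⁻¹ ∈ (S : Subgroup G) := by
  have : Fact (Nat.Prime 2) := ⟨Nat.prime_two⟩
  have hU' : IsPGroup 2 (U.subgroupOf C) := hU.comap_of_injective C.subtype C.subtype_injective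
  have hD' : IsPGroup 2 (D.subgroupOf C) := hD.comap_of_injective C.subtype C.subtype_injective
  obtain ⟨P1, hP1⟩ := hU'.exists_le_sylow
  obtain ⟨P2, hP2⟩ := hD'.exists_le_sylow
  obtain ⟨c, hc⟩ := MulAction.exists_smul_eq C P2 P1
  have hQ : IsPGroup 2 ((P1 : Subgroup C).map C.subtype) := P1.isPGroup'.map _
  obtain ⟨Q, hQ⟩ := hQ.exists_le_sylow
  obtain ⟨h, hh⟩ := MulAction.exists_smul_eq G Q S
  have key : ∀ x ∈ (P1 : Subgroup C), h * (x : G) * h⁻¹ ∈ (S : Subgroup G) := by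
    intro x hx
    rw [← hh]
    show _ ∈ ((h • Q : Sylow 2 G) : Subgroup G)
    rw [Sylow.coe_subgroup_smul, Subgroup.mem_pointwise_smul_iff_inv_smul_mem]
    have : (MulAut.conj h)⁻¹ • (h * (x : G) * h⁻¹) = (x : G) := (MulAut.conj h).symm_apply_apply _
    rw [this]
    exact hQ ⟨x, hx, rfl⟩
  refine ⟨c, c.2, h, ?_, ?_⟩
  · intro x hx
    exact key ⟨x, hUC hx⟩ (hP1 (mem_subgroupOf.2 hx))
  · intro x hx
    refine key (c * ⟨x, hDC hx⟩ * c⁻¹) ?_
    rw [← hc, Sylow.coe_subgroup_smul, Subgroup.mem_pointwise_smul_iff_inv_smul_mem]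
    have : (MulAut.conj c)⁻¹ • (c * ⟨x, hDC hx⟩ * c⁻¹) = ⟨x, hDC hx⟩ := (MulAut.conj c).symm_apply_apply _
    rw [this]
    exact hP2 (mem_subgroupOf.2 hx)

omit [Finite G] in
/-- Some conjugate of `t` commutes with `x`. -/
def Dc (t x : G) : Prop := ∃ g : G, (g * t * g⁻¹) * x = x * (g * t * g⁻¹)

omit [Finite G] in
theorem Dc.conj {t x : G} (h : Dc t x) (k : G) : Dc t (k * x * k⁻¹) := by
  obtain ⟨g, hg⟩ := h
  refine ⟨k * g, ?_⟩
  calc (k * g) * t * (k * g)⁻¹ * (k * x * k⁻¹) = k * ((g * t * g⁻¹) * x) * k⁻¹ := by group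
    _ = k * (x * (g * t * g⁻¹)) * k⁻¹ := by rw [hg]
    _ = (k * x * k⁻¹) * ((k * g) * t * (k * g)⁻¹) := by group

omit [Finite G] in
theorem Dc.of_conj {t x : G} {k : G} (h : Dc t (k * x * k⁻¹)) : Dc t x := by
  have := h.conj k⁻¹
  have e : k⁻¹ * (k * x * k⁻¹) * k⁻¹⁻¹ = x := by group
  rwa [e] at this

end General

variable {G : Type*} [Group G] {F : Type*} [Field F] {t : G} {A1 A2 : Subgroup G} {fr1 : FrameL3 A1 F}
  {fr2 : FrameL3 A2 F}

namespace Pre

section Elementary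

variable {S : Subgroup G} (P : Pre t fr1 fr2 S) [Finite G] [Finite F] [CharP F 2]
include P

/-- **Mixed involutions commute with a conjugate of `t`.** -/
theorem mixed {b1 b2 : G} (h1 : b1 ∈ A1) (h2 : b2 ∈ A2) (s1 : b1 * b1 = 1) (s2 : b2 * b2 = 1) (n1 : b1 ≠ 1)
    (n2 : b2 ≠ 1) : Dc t (b1 * b2) := by
  obtain ⟨y1, hy1, e1⟩ := fr1.involution_conj P.Z1 h1 s1 n1
  obtain ⟨y2, hy2, e2⟩ := fr2.involution_conj P.Z2 h2 s2 n2
  apply Dc.of_conj (k := y1 * y2)
  have hx1 : fr1.x 0 2 1 ∈ A1 := fr1.mem (by decide) 1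
  have hx2 : fr2.x 0 2 1 ∈ A2 := fr2.mem (by decide) 1
  have e3 : y1 * y2 * (b1 * b2) * (y1 * y2)⁻¹ = fr1.x 0 2 1 * fr2.x 0 2 1 := by
    have c1 := P.comm _ h1 _ hy2
    have c2 := P.comm _ (inv_mem hy1) _ (mul_mem (mul_mem hy2 h2) (inv_mem hy2))
    calc y1 * y2 * (b1 * b2) * (y1 * y2)⁻¹ = y1 * (y2 * b1) * b2 * y2⁻¹ * y1⁻¹ := by group
      _ = y1 * (b1 * y2) * b2 * y2⁻¹ * y1⁻¹ := by rw [c1]
      _ = y1 * b1 * (y2 * b2 * y2⁻¹ * y1⁻¹) := by group
      _ = y1 * b1 * (y1⁻¹ * (y2 * b2 * y2⁻¹)) := by rw [c2]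
      _ = (y1 * b1 * y1⁻¹) * (y2 * b2 * y2⁻¹) := by group
      _ = _ := by rw [e1, e2]
  rw [e3]
  refine ⟨1, ?_⟩
  have e4 : t * (fr1.x 0 2 1 * fr2.x 0 2 1) * t = fr1.x 0 2 1 * fr2.x 0 2 1 := by
    rw [P.tmul, P.x 0 2 (by decide), P.x' (by decide), P.comm _ hx1 _ hx2]
  calc 1 * t * 1⁻¹ * (fr1.x 0 2 1 * fr2.x 0 2 1) = t * (fr1.x 0 2 1 * fr2.x 0 2 1) * (t * t) := by
        rw [P.tt]; group
    _ = (t * (fr1.x 0 2 1 * fr2.x 0 2 1) * t) * t := by group
    _ = fr1.x 0 2 1 * fr2.x 0 2 1 * (1 * t * 1⁻¹) := by rw [e4]; group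

theorem ft_conj {s y : G} {σ : F ≃+* F} (hs : s ∈ S0 A1 A2 S) (h : FT fr1 y σ) : FT fr1 (s * y * s⁻¹) σ := by
  rcases P.ad1.cases hs with ⟨τ, h1⟩ | ⟨τ, h1⟩
  · have h2 := (h1.mul P.Z1 h).mul P.Z1 (h1.inv P.Z1)
    rwa [OutField.comm τ σ, mul_inv_cancel_right] at h2
  · have h2 := (h1.mul_ft P.Z1 h).mul P.Z1 (h1.inv P.Z1)
    rwa [OutField.comm τ σ, mul_inv_cancel_right] at h2

theorem gt_conj {s y : G} {σ : F ≃+* F} (hs : s ∈ S0 A1 A2 S) (h : GT fr1 y σ) : GT fr1 (s * y * s⁻¹) σ := by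
  rcases P.ad1.cases hs with ⟨τ, h1⟩ | ⟨τ, h1⟩
  · have h2 := (h1.mul_gt P.Z1 h).mul_ft P.Z1 (h1.inv P.Z1)
    rwa [OutField.comm τ σ, mul_inv_cancel_right] at h2
  · have h2 := (h1.mul P.Z1 h).mul_gt P.Z1 (h1.inv P.Z1)
    rwa [OutField.comm τ σ, mul_inv_cancel_right] at h2

/-- an element commuting with a swapping element has the same type on both sides -/
theorem ft_of_comm {u y : G} {σ : F ≃+* F} (hu : t * u ∈ S0 A1 A2 S) (hc : u * y = y * u) (h : FT fr1 y σ) :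
    FT fr2 y σ := by
  have h1 := P.ft_swap (P.ft_conj hu h)
  have e : t * (t * u * y * (t * u)⁻¹) * t = y := by
    calc t * (t * u * y * (t * u)⁻¹) * t = (t * t) * (u * y) * u⁻¹ * (t⁻¹ * t) := by group
      _ = y := by rw [P.tt, hc]; group
  rwa [e] at h1

theorem gt_of_comm {u y : G} {σ : F ≃+* F} (hu : t * u ∈ S0 A1 A2 S) (hc : u * y = y * u) (h : GT fr1 y σ) :
    GT fr2 y σ := by
  have h1 := P.gt_swap (P.gt_conj hu h)
  have e : t * (t * u * y * (t * u)⁻¹) * t = y := by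
    calc t * (t * u * y * (t * u)⁻¹) * t = (t * t) * (u * y) * u⁻¹ * (t⁻¹ * t) := by group
      _ = y := by rw [P.tt, hc]; group
  rwa [e] at h1

omit [Finite G] [Finite F] in
/-- an element of `S` acting on both frames as the same standard automorphism commutes with `t` -/
theorem comm_t_fld {f : G} {σ : F ≃+* F} (hf : f ∈ S0 A1 A2 S) (h1 : Fld fr1 f σ) (h2 : Fld fr2 f σ) :
    t * f * t = f := by
  have hg := P.S0_swap hf
  have k1 : Fld fr1 (f⁻¹ * (t * f * t)) 1 := by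
    have := h1.inv.mul (P.fld_swap' h2)
    rwa [inv_mul_cancel] at this
  have k2 : Fld fr2 (f⁻¹ * (t * f * t)) 1 := by
    have := h2.inv.mul (P.fld_swap h1)
    rwa [inv_mul_cancel] at this
  have hm := mul_mem (inv_mem hf) hg
  have h3 := P.triv _ (P.S0_le hm) (mem_centralizer_of_fld_one P.p1 (P.S0_n1 hm) k1)
    (mem_centralizer_of_fld_one P.p2 (P.S0_n2 hm) k2)
  exact (inv_mul_eq_one.1 h3).symm

omit [Finite G] [Finite F] in
theorem comm_t_grf {f : G} {σ : F ≃+* F} (hf : f ∈ S0 A1 A2 S) (h1 : Grf fr1 f σ) (h2 : Grf fr2 f σ) :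
    t * f * t = f := by
  have hg := P.S0_swap hf
  have k1 : Fld fr1 (f⁻¹ * (t * f * t)) 1 := by
    have := h1.inv.mul (P.grf_swap' h2)
    rwa [inv_mul_cancel] at this
  have k2 : Fld fr2 (f⁻¹ * (t * f * t)) 1 := by
    have := h2.inv.mul (P.grf_swap h1)
    rwa [inv_mul_cancel] at this
  have hm := mul_mem (inv_mem hf) hg
  have h3 := P.triv _ (P.S0_le hm) (mem_centralizer_of_fld_one P.p1 (P.S0_n1 hm) k1)
    (mem_centralizer_of_fld_one P.p2 (P.S0_n2 hm) k2)
  exact (inv_mul_eq_one.1 h3).symm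

omit [Finite G] [Finite F] [CharP F 2] in
theorem fld_congr {f w : G} {σ : F ≃+* F} (hw : w ∈ centralizer (A1 : Set G)) (h : Fld fr1 f σ)
    (hf : f ∈ normalizer (A1 : Set G)) : Fld fr1 (w * f * w⁻¹) σ := by
  intro i j hij s
  have h1 : w⁻¹ * fr1.x i j s * w = fr1.x i j s := by
    rw [mul_assoc, mem_centralizer_iff.1 hw _ (fr1.mem hij s), inv_mul_cancel_left]
  have h2 : f * fr1.x i j s * f⁻¹ ∈ A1 := (mem_normalizer_iff.1 hf _).1 (fr1.mem hij s)
  calc w * f * w⁻¹ * fr1.x i j s * (w * f * w⁻¹)⁻¹ = w * (f * (w⁻¹ * fr1.x i j s * w) * f⁻¹) * w⁻¹ := by group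
    _ = w * (f * fr1.x i j s * f⁻¹) * w⁻¹ := by rw [h1]
    _ = f * fr1.x i j s * f⁻¹ := by rw [← mem_centralizer_iff.1 hw _ h2, mul_inv_cancel_right]
    _ = _ := h i j hij s

omit P in
omit [Finite G] [Finite F] [CharP F 2] in
theorem cent_fld {A : Subgroup G} {fr : FrameL3 A F} {f w : G} {σ : F ≃+* F} (hw : w ∈ centralizer (A : Set G))
    (hf : f ∈ normalizer (A : Set G)) (h : Fld fr f σ) : Fld fr (w * f * w⁻¹) σ := by
  intro i j hij s
  have h1 : w⁻¹ * fr.x i j s * w = fr.x i j s := by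
    rw [mul_assoc, mem_centralizer_iff.1 hw _ (fr.mem hij s), inv_mul_cancel_left]
  have h2 : f * fr.x i j s * f⁻¹ ∈ A := (mem_normalizer_iff.1 hf _).1 (fr.mem hij s)
  calc w * f * w⁻¹ * fr.x i j s * (w * f * w⁻¹)⁻¹ = w * (f * (w⁻¹ * fr.x i j s * w) * f⁻¹) * w⁻¹ := by group
    _ = w * (f * fr.x i j s * f⁻¹) * w⁻¹ := by rw [h1]
    _ = f * fr.x i j s * f⁻¹ := by rw [← mem_centralizer_iff.1 hw _ h2, mul_inv_cancel_right]
    _ = _ := h i j hij s

omit P in
omit [Finite G] [Finite F] [CharP F 2] in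
theorem cent_grf {A : Subgroup G} {fr : FrameL3 A F} {f w : G} {σ : F ≃+* F} (hw : w ∈ centralizer (A : Set G))
    (hf : f ∈ normalizer (A : Set G)) (h : Grf fr f σ) : Grf fr (w * f * w⁻¹) σ := by
  intro i j hij s
  have h1 : w⁻¹ * fr.x i j s * w = fr.x i j s := by
    rw [mul_assoc, mem_centralizer_iff.1 hw _ (fr.mem hij s), inv_mul_cancel_left]
  have h2 : f * fr.x i j s * f⁻¹ ∈ A := (mem_normalizer_iff.1 hf _).1 (fr.mem hij s)
  calc w * f * w⁻¹ * fr.x i j s * (w * f * w⁻¹)⁻¹ = w * (f * (w⁻¹ * fr.x i j s * w) * f⁻¹) * w⁻¹ := by group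
    _ = w * (f * fr.x i j s * f⁻¹) * w⁻¹ := by rw [h1]
    _ = f * fr.x i j s * f⁻¹ := by rw [← mem_centralizer_iff.1 hw _ h2, mul_inv_cancel_right]
    _ = _ := h i j hij s

/-- **Involutions of `S₀` commuting with a swapping element commute with a conjugate of `t`.** -/
theorem diag {u y : G} (hu : t * u ∈ S0 A1 A2 S) (hy : y ∈ S0 A1 A2 S) (hy2 : y * y = 1) (hy1 : y ≠ 1)
    (hc : u * y = y * u) : Dc t y := by
  have hyc1 : y * y ∈ centralizer (A1 : Set G) := by rw [hy2]; exact one_mem _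
  have hyc2 : y * y ∈ centralizer (A2 : Set G) := by rw [hy2]; exact one_mem _
  by_cases hU : y ∈ P.Uh
  · -- inner case
    obtain ⟨a, ha, b, hb, rfl⟩ := hU
    have hab := P.comm a (fr1.U_le ha) b (fr2.U_le hb)
    have h1 : (u * b * u⁻¹) * (u * a * u⁻¹) = a * b := by
      calc (u * b * u⁻¹) * (u * a * u⁻¹) = u * (b * a) * u⁻¹ := by group
        _ = u * (a * b) * u⁻¹ := by rw [hab]
        _ = a * b := by rw [hc, mul_inv_cancel_right]
    obtain ⟨e1, e2⟩ := P.comp_unique (P.swap_U2 hu hb) ha (P.swap_U1 hu ha) hb h1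
    have h2 : (a * a) * (b * b) = 1 * 1 := by
      calc (a * a) * (b * b) = a * (a * b) * b := by group
        _ = a * (b * a) * b := by rw [hab]
        _ = (a * b) * (a * b) := by group
        _ = 1 * 1 := by rw [hy2, one_mul]
    obtain ⟨e3, e4⟩ := P.comp_unique (mul_mem ha ha) (one_mem _) (mul_mem hb hb) (one_mem _) h2
    have ha1 : a ≠ 1 := by
      rintro rfl
      apply hy1
      rw [← e2]; group
    have hb1 : b ≠ 1 := by
      rintro rfl
      apply hy1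
      rw [← e1]; group
    exact P.mixed (fr1.U_le ha) (fr2.U_le hb) e3 e4 ha1 hb1
  · rcases P.ad1.invol P.Z1 P.S0_n1 P.p1 hy hyc1 with ⟨v, hv, hvc⟩ | ⟨w1, hw1, σ, hσ2, h1⟩
    · exfalso
      apply hU
      have h1 : FT fr1 y 1 := by
        have h2 := (FT.of_mem_U (fr := fr1) hv).mul P.Z1 (FT.of_centralizer (fr := fr1) hvc)
        rwa [one_mul, mul_inv_cancel_left] at h2
      exact P.mem_Uh_of_ft hy h1 (P.ft_of_comm hu hc h1)
    · have hty1 : (σ ≠ 1 ∧ FT fr1 y σ) ∨ GT fr1 y σ := by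
        have e : y = w1⁻¹ * (w1 * y * w1⁻¹) * w1 := by group
        rcases h1 with ⟨hσ, h1⟩ | h1
        · left
          refine ⟨hσ, ?_⟩
          have h2 : FT fr1 (w1 * y * w1⁻¹) σ := ⟨1, one_mem _, by rw [one_mul]; exact h1⟩
          have h3 := ((FT.of_mem_U (fr := fr1) (inv_mem hw1)).mul P.Z1 h2).mul P.Z1 (FT.of_mem_U (fr := fr1) hw1)
          rwa [one_mul, mul_one, ← e] at h3
        · right
          have h2 : GT fr1 (w1 * y * w1⁻¹) σ := ⟨1, one_mem _, by rw [one_mul]; exact h1⟩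
          have h3 := ((FT.of_mem_U (fr := fr1) (inv_mem hw1)).mul_gt P.Z1 h2).mul_ft P.Z1
            (FT.of_mem_U (fr := fr1) hw1)
          rwa [one_mul, mul_one, ← e] at h3
      have hw1A : w1 ∈ A1 := fr1.U_le hw1
      have hw1S := P.U1_S0 hw1
      rcases P.ad2.invol P.Z2 P.S0_n2 P.p2 hy hyc2 with ⟨v, hv, hvc⟩ | ⟨w2, hw2, τ, hτ2, h2⟩
      · exfalso
        have h1 : FT fr2 y 1 := by
          have h2 := (FT.of_mem_U (fr := fr2) hv).mul P.Z2 (FT.of_centralizer (fr := fr2) hvc)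
          rwa [one_mul, mul_inv_cancel_left] at h2
        rcases hty1 with ⟨hσ, h3⟩ | h3
        · exact hσ ((P.ft_of_comm hu hc h3).eq_of P.Z2 h1)
        · exact h1.not_gt P.Z2 (P.gt_of_comm hu hc h3)
      · have hw2A : w2 ∈ A2 := fr2.U_le hw2
        have hw2S := P.U2_S0 hw2
        have hcw : w1 * w2 = w2 * w1 := P.comm _ hw1A _ hw2A
        -- types on the second side
        have e : y = w2⁻¹ * (w2 * y * w2⁻¹) * w2 := by group
        have hf : w1 * w2 * y * (w1 * w2)⁻¹ ∈ S0 A1 A2 S :=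
          mul_mem (mul_mem (mul_mem hw1S hw2S) hy) (inv_mem (mul_mem hw1S hw2S))
        have e1 : w1 * w2 * y * (w1 * w2)⁻¹ = w2 * (w1 * y * w1⁻¹) * w2⁻¹ := by
          rw [hcw]; group
        have e2 : w1 * w2 * y * (w1 * w2)⁻¹ = w1 * (w2 * y * w2⁻¹) * w1⁻¹ := by group
        have n1 : w1 * y * w1⁻¹ ∈ normalizer (A1 : Set G) :=
          P.S0_n1 (mul_mem (mul_mem hw1S hy) (inv_mem hw1S))
        have n2 : w2 * y * w2⁻¹ ∈ normalizer (A2 : Set G) :=
          P.S0_n2 (mul_mem (mul_mem hw2S hy) (inv_mem hw2S))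
        have main : t * (w1 * w2 * y * (w1 * w2)⁻¹) * t = w1 * w2 * y * (w1 * w2)⁻¹ := by
          rcases h1 with ⟨hσ, h1⟩ | h1
          · have hty : FT fr1 y σ := by
              rcases hty1 with ⟨-, h⟩ | h
              · exact h
              · exfalso
                have h3 : FT fr1 (w1 * y * w1⁻¹) σ := ⟨1, one_mem _, by rw [one_mul]; exact h1⟩
                have h4 := ((FT.of_mem_U (fr := fr1) (inv_mem hw1)).mul P.Z1 h3).mul P.Z1
                  (FT.of_mem_U (fr := fr1) hw1)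
                have e0 : w1⁻¹ * (w1 * y * w1⁻¹) * w1 = y := by group
                rw [e0] at h4
                exact h4.not_gt P.Z1 h
            have hty2 := P.ft_of_comm hu hc hty
            rcases h2 with ⟨hτ, h2⟩ | h2
            · have h3 : FT fr2 (w2 * y * w2⁻¹) τ := ⟨1, one_mem _, by rw [one_mul]; exact h2⟩
              have h4 := ((FT.of_mem_U (fr := fr2) (inv_mem hw2)).mul P.Z2 h3).mul P.Z2
                (FT.of_mem_U (fr := fr2) hw2)
              rw [one_mul, mul_one, ← e] at h4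
              have h5 : τ = σ := h4.eq_of P.Z2 hty2
              subst h5
              refine P.comm_t_fld hf (σ := τ) ?_ ?_
              · rw [e1]; exact cent_fld (P.cent2 hw2A) n1 h1
              · rw [e2]; exact cent_fld (P.cent1 hw1A) n2 h2
            · exfalso
              have h3 : GT fr2 (w2 * y * w2⁻¹) τ := ⟨1, one_mem _, by rw [one_mul]; exact h2⟩
              have h4 := ((FT.of_mem_U (fr := fr2) (inv_mem hw2)).mul_gt P.Z2 h3).mul_ft P.Z2
                (FT.of_mem_U (fr := fr2) hw2)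
              rw [one_mul, mul_one, ← e] at h4
              exact hty2.not_gt P.Z2 h4
          · have hty : GT fr1 y σ := by
              have h3 : GT fr1 (w1 * y * w1⁻¹) σ := ⟨1, one_mem _, by rw [one_mul]; exact h1⟩
              have h4 := ((FT.of_mem_U (fr := fr1) (inv_mem hw1)).mul_gt P.Z1 h3).mul_ft P.Z1
                (FT.of_mem_U (fr := fr1) hw1)
              have e0 : w1⁻¹ * (w1 * y * w1⁻¹) * w1 = y := by group
              rwa [e0, one_mul, mul_one] at h4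
            have hty2 := P.gt_of_comm hu hc hty
            rcases h2 with ⟨hτ, h2⟩ | h2
            · exfalso
              have h3 : FT fr2 (w2 * y * w2⁻¹) τ := ⟨1, one_mem _, by rw [one_mul]; exact h2⟩
              have h4 := ((FT.of_mem_U (fr := fr2) (inv_mem hw2)).mul P.Z2 h3).mul P.Z2
                (FT.of_mem_U (fr := fr2) hw2)
              rw [one_mul, mul_one, ← e] at h4
              exact h4.not_gt P.Z2 hty2
            · have h3 : GT fr2 (w2 * y * w2⁻¹) τ := ⟨1, one_mem _, by rw [one_mul]; exact h2⟩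
              have h4 := ((FT.of_mem_U (fr := fr2) (inv_mem hw2)).mul_gt P.Z2 h3).mul_ft P.Z2
                (FT.of_mem_U (fr := fr2) hw2)
              rw [one_mul, mul_one, ← e] at h4
              have h5 : τ = σ := h4.eq_of P.Z2 hty2
              subst h5
              refine P.comm_t_grf hf (σ := τ) ?_ ?_
              · rw [e1]; exact cent_grf (P.cent2 hw2A) n1 h1
              · rw [e2]; exact cent_grf (P.cent1 hw1A) n2 h2
        apply Dc.of_conj (k := w1 * w2)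
        refine ⟨1, ?_⟩
        set f := w1 * w2 * y * (w1 * w2)⁻¹
        calc 1 * t * 1⁻¹ * f = t * f * (t * t) := by rw [P.tt]; group
          _ = (t * f * t) * t := by group
          _ = f * (1 * t * 1⁻¹) := by rw [main]; group

end Elementary

section Syl

variable [Finite G] [Finite F] [CharP F 2] {S : Sylow 2 G} (P : Pre t fr1 fr2 (S : Subgroup G))
  (hD : ∀ g : G, g * t * g⁻¹ ∉ S0 A1 A2 (S : Subgroup G))
include P

omit [Finite G] [Finite F] [CharP F 2] in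
theorem isPGroup_sub {D : Subgroup G} (hD : ∀ x ∈ D, x * x = 1) : IsPGroup 2 D := by
  intro x
  refine ⟨1, Subtype.ext ?_⟩
  rw [pow_one, pow_two]
  exact hD x x.2

theorem z_comm {x : G} (hx : x ∈ P.Uh) : x * fr1.x 0 2 1 = fr1.x 0 2 1 * x := by
  obtain ⟨a, ha, b, hb, rfl⟩ := hx
  have h1 := conj_U_zero fr1 P.Z1 ha 1
  rw [u_t fr1 P.Z1, mul_inv_eq_iff_eq_mul] at h1
  have h2 := P.comm _ (fr1.mem (i := 0) (j := 2) (by decide) 1) b (fr2.U_le hb)
  rw [mul_assoc, ← h2, ← mul_assoc, h1, mul_assoc]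

omit [Finite G] [Finite F] [CharP F 2] in
theorem mem_map_conj {k : G} {D : Subgroup G} {x : G} :
    x ∈ D.map (MulAut.conj k).toMonoidHom ↔ ∃ d ∈ D, x = k * d * k⁻¹ := by
  constructor
  · rintro ⟨d, hd, rfl⟩
    exact ⟨d, hd, rfl⟩
  · rintro ⟨d, hd, rfl⟩
    exact ⟨d, hd, rfl⟩

include hD in
/-- no conjugate of `t` commutes with `z` -/
theorem no_comm_z : ¬ Dc t (fr1.x 0 2 1) := by
  rintro ⟨g, hg⟩
  set z := fr1.x 0 2 1 with hz
  set d := g * t * g⁻¹ with hd
  have hdd : d * d = 1 := by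
    calc d * d = g * (t * t) * g⁻¹ := by rw [hd]; group
      _ = 1 := by rw [P.tt]; group
  have hzp : ∀ x ∈ zpowers d, x * x = 1 := by
    intro x hx
    obtain ⟨n, rfl⟩ := mem_zpowers_iff.1 hx
    rw [← (Commute.refl d).mul_zpow, hdd, one_zpow]
  have hUC : P.Uh ≤ centralizer {z} := by
    intro x hx
    rw [mem_centralizer_singleton_iff]
    exact P.z_comm hx
  have hDC : zpowers d ≤ centralizer {z} := by
    rw [zpowers_le, mem_centralizer_singleton_iff]
    exact hg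
  have hU2 : IsPGroup 2 P.Uh := P.two.to_le (P.Uh_S0.trans P.S0_le)
  obtain ⟨c, hc, h, h1, h2⟩ := exists_common hU2 hUC (P.isPGroup_sub hzp) hDC S
  have h3 := P.weak h1
  have h4 := h2 d (mem_zpowers d)
  -- the conjugate of `d` swaps
  have h5 : h * (c * d * c⁻¹) * h⁻¹ ∉ S0 A1 A2 (S : Subgroup G) := by
    have e : h * (c * d * c⁻¹) * h⁻¹ = (h * c * g) * t * (h * c * g)⁻¹ := by rw [hd]; group
    rw [e]
    exact hD _
  have h6 := P.not_S0 h4 h5
  set d' := h * (c * d * c⁻¹) * h⁻¹ with hd'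
  have hcz : c * z = z * c := mem_centralizer_singleton_iff.1 hc
  have h7 : d' * (h * z * h⁻¹) * d'⁻¹ = h * z * h⁻¹ := by
    have e1 : c⁻¹ * z * c = z := by rw [mul_assoc, ← hcz, inv_mul_cancel_left]
    calc d' * (h * z * h⁻¹) * d'⁻¹ = h * (c * (d * (c⁻¹ * z * c) * d⁻¹) * c⁻¹) * h⁻¹ := by rw [hd']; group
      _ = h * (c * z * c⁻¹) * h⁻¹ := by rw [e1, hg, mul_inv_cancel_right]
      _ = h * z * h⁻¹ := by rw [hcz, mul_inv_cancel_right]
  have hz1 : h * z * h⁻¹ ≠ 1 := by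
    intro e
    have : z = 1 := by
      calc z = h⁻¹ * (h * z * h⁻¹) * h := by group
        _ = 1 := by rw [e]; group
    rw [hz, fr1.x_eq_one P.Z1 (by decide)] at this
    exact one_ne_zero this
  have h8 := P.center_perm h3 1
  rw [u_t fr1 P.Z1, ← hz] at h8
  rcases h8 with ⟨c', h9⟩ | ⟨c', h9⟩
  · apply hz1
    refine P.inter (by rw [h9]; exact u_mem fr1 _ _ _) ?_
    rw [← h7, h9]
    exact P.swap_U1 h6 (u_mem fr1 _ _ _)
  · apply hz1
    refine P.inter ?_ (by rw [h9]; exact u_mem fr2 _ _ _)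
    rw [← h7, h9]
    exact P.swap_U2 h6 (u_mem fr2 _ _ _)

include hD in
/-- **No conjugate of `t` commutes with an involution of `A₁`.** -/
theorem no_comm1 {e : G} (he : e ∈ A1) (he2 : e * e = 1) (he1 : e ≠ 1) : ¬ Dc t e := by
  intro h
  obtain ⟨y, hy, h1⟩ := fr1.involution_conj P.Z1 he he2 he1
  exact P.no_comm_z hD (by rw [← h1]; exact h.conj y)

include hD in
/-- **No conjugate of `t` commutes with an involution of `A₂`.** -/
theorem no_comm2 {e : G} (he : e ∈ A2) (he2 : e * e = 1) (he1 : e ≠ 1) : ¬ Dc t e := by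
  intro h
  refine P.no_comm1 hD ((P.swap' e).1 he) ?_ ?_ ?_
  · rw [← P.tmul, he2, mul_one, P.tt]
  · intro h1
    apply he1
    rw [← P.tct e, h1, mul_one, P.tt]
  · have := h.conj t
    rwa [P.ti] at this

end Syl

end Pre

end Cfsg.Agent.StdRank2.L3WJ
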