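import Cfsg.Agent.StdRank2.L3W.Defs
import Cfsg.Agent.StdRank2.L3WJ.TypeI

/-!
# Wreath case of type `L₃(q)`: `hW` and `hD` from the configuration `Wr`

* `pre` : `Wr` gives `Pre`;
* `hW` : `U₁ U₂` is weakly closed in `P`;
* `hD` : mixed involutions are not conjugate into `U₁ ∪ U₂`;
* `typeI` : an involution of `U₁` commutes with no conjugate of `t`;
* `hO` : the involutions of `S₀` commuting with a swapping element commute with a conjugate of `t`.
-/

set_option autoImplicit false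

namespace Cfsg.Agent.StdRank2.L3WJ

open Subgroup Cfsg.Agent.StdRank2.L3W

variable {G : Type*} [Group G] [Finite G] {F : Type*} [Field F] [Finite F] [CharP F 2] {G1 G2 : Subgroup G}
  {fr : FrameL3 G1 F} {fr' : FrameL3 G2 F} {E : Subgroup G} {P : Sylow 2 G} {t : G} (W : Wr fr fr' E P t)
  (hF : 4 ≤ Nat.card F)
include W

theorem S0_eq : S0 G1 G2 (P : Subgroup G) = (P ⊓ NN G1 G2 : Subgroup G) := rfl

include hF

theorem pre : Pre t fr fr' (P : Subgroup G) where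
  Z1 := W.oddZ
  p1 := W.perf1
  comm := W.comm
  tt := W.tt
  swap := by
    intro a
    have ti := W.ti
    constructor
    · intro ha
      have := W.t_G1 a ha
      rwa [ti] at this
    · intro ha
      have := W.t_G2 _ ha
      have e : t * (t * a * t) * t⁻¹ = a := by
        calc t * (t * a * t) * t⁻¹ = (t * t) * a * (t * t⁻¹) := by group
          _ = a := by rw [W.tt]; group
      rwa [e] at this
  x := by
    intro i j _ s
    rw [W.frame, W.ti]
  tS := W.tP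
  two := P.isPGroup'
  U1 := W.U_le
  perm := by
    intro y hy
    rcases W.P_le y hy with h | h
    · exact Or.inl (mem_inf.2 ⟨hy, h⟩)
    · exact Or.inr (mem_inf.2 ⟨mul_mem W.tP hy, h⟩)
  ad1 := W.adapted
  triv := by
    intro y hy h1 h2
    obtain ⟨k, hk⟩ := P.isPGroup' ⟨y, hy⟩
    refine W.cent y (fun x hx => (mem_centralizer_iff.1 h1 x hx).symm)
      (fun x hx => (mem_centralizer_iff.1 h2 x hx).symm) ⟨k, ?_⟩
    exact congrArg Subtype.val hk
  four := hF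

omit [Finite G] [Finite F] [CharP F 2] hF in
theorem F1' (g : G) : g * t * g⁻¹ ∉ S0 G1 G2 (P : Subgroup G) := by
  intro h
  have := W.F1 g⁻¹
  rw [inv_inv] at this
  exact this (mem_inf.1 h).2

theorem Uh_eq : (pre W hF).Uh = fr.U ⊔ fr'.U := by
  apply le_antisymm
  · rintro _ ⟨a, ha, b, hb, rfl⟩
    exact mul_mem (mem_sup_left ha) (mem_sup_right hb)
  · exact sup_le (pre W hF).U1_le (pre W hF).U2_le

/-- weak closure -/
theorem hW : ∀ g : G, (∀ x ∈ fr.U ⊔ fr'.U, g⁻¹ * x * g ∈ (P : Subgroup G)) →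
      ∀ x ∈ fr.U ⊔ fr'.U, g⁻¹ * x * g ∈ fr.U ⊔ fr'.U := by
  intro g hg x hx
  rw [← Uh_eq W hF] at hg hx ⊢
  have := (pre W hF).weak (g := g⁻¹) (by
    intro x hx
    rw [inv_inv]
    exact hg x hx) x hx
  rwa [inv_inv] at this

/-- **An involution of `U₁` commutes with no conjugate of `t`.** -/
theorem typeI : TypeI fr t := by
  intro z hz hz2 hz1 g hg
  refine (pre W hF).no_comm1 (F1' W) (fr.U_le hz) hz2 hz1 ⟨g⁻¹, ?_⟩
  rw [inv_inv]
  exact hg

/-- mixed involutions are not conjugate into `U₁ ∪ U₂` -/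
theorem hD : ∀ a ∈ fr.U, ∀ b ∈ fr'.U, a ≠ 1 → b ≠ 1 → a * a = 1 → b * b = 1 → ∀ g : G,
      g⁻¹ * (a * b) * g ∉ fr.U ∧ g⁻¹ * (a * b) * g ∉ fr'.U := by
  intro a ha b hb ha1 hb1 ha2 hb2 g
  have h1 := ((pre W hF).mixed (fr.U_le ha) (fr'.U_le hb) ha2 hb2 ha1 hb1).conj g⁻¹
  rw [inv_inv] at h1
  have hab := W.comm a (fr.U_le ha) b (fr'.U_le hb)
  have h2 : g⁻¹ * (a * b) * g * (g⁻¹ * (a * b) * g) = 1 := by
    calc g⁻¹ * (a * b) * g * (g⁻¹ * (a * b) * g) = g⁻¹ * (a * (b * a) * b) * g := by group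
      _ = g⁻¹ * (a * (a * b) * b) * g := by rw [hab]
      _ = g⁻¹ * ((a * a) * (b * b)) * g := by group
      _ = 1 := by rw [ha2, hb2]; group
  have h3 : g⁻¹ * (a * b) * g ≠ 1 := by
    intro h
    have h4 : a * b = 1 := by
      calc a * b = g * (g⁻¹ * (a * b) * g) * g⁻¹ := by group
        _ = 1 := by rw [h]; group
    have h5 : a = b⁻¹ := eq_inv_of_mul_eq_one_left h4
    exact ha1 ((pre W hF).inter ha (by rw [h5]; exact inv_mem hb))
  exact ⟨fun h => (pre W hF).no_comm1 (F1' W) (fr.U_le h) h2 h3 h1,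
    fun h => (pre W hF).no_comm2 (F1' W) (fr'.U_le h) h2 h3 h1⟩

/-- involutions of `S₀` commuting with a swapping element commute with a conjugate of `t` -/
theorem hO : ∀ w ∈ (P ⊓ NN G1 G2 : Subgroup G), w * w = 1 → w ≠ 1 → ∀ u ∈ (P : Subgroup G),
    u ∉ (P ⊓ NN G1 G2 : Subgroup G) → u * w = w * u → ∃ x : G, (x⁻¹ * t * x) * w = w * (x⁻¹ * t * x) := by
  intro w hw hw2 hw1 u hu hu0 hc
  have hu1 := (pre W hF).not_S0 hu hu0
  obtain ⟨g, hg⟩ := (pre W hF).diag hu1 hw hw2 hw1 hc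
  refine ⟨g⁻¹, ?_⟩
  rw [inv_inv]
  exact hg

end Cfsg.Agent.StdRank2.L3WJ
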