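import Cfsg.Agent.StdRank2.L3WJ.Conn
import Cfsg.Agent.StdRank2.OutSplit.Final

/-!
# Wreath case of type `L₃(q)`: `hilb` and `split`

* `hilb` : the involutions of the coset `w U₂` are `U₂`-conjugate, for an involution `w ∈ S₀ ∖ U₁U₂` with
  `w (t w t) ∈ U₁U₂`;
* `split` : elements of `S₀` over involutory types `(s, s)` can be corrected to involutions.
-/

set_option autoImplicit false

namespace Cfsg.Agent.StdRank2.L3WJ

open Subgroup Cfsg.Agent.StdRank2.L3W Cfsg.Agent.StdRank2.OutL3Rel Cfsg.Agent.StdRank2.OutField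
  Cfsg.Agent.StdRank2.OutL3Inv Cfsg.Agent.StdRank2.OutL3Je

section

variable {G : Type*} [Group G] {F : Type*} [Field F] {t : G} {A1 A2 : Subgroup G} {fr1 : FrameL3 A1 F}
  {fr2 : FrameL3 A2 F} {S : Subgroup G} (P : Pre t fr1 fr2 S) [Finite G] [Finite F] [CharP F 2]
include P

namespace Pre

theorem ft_of_Uh1 {x : G} (hx : x ∈ P.Uh) : FT fr1 x 1 := by
  obtain ⟨a, ha, b, hb, rfl⟩ := hx
  have h1 := (FT.of_mem_U (fr := fr1) ha).mul P.Z1 (FT.of_centralizer (fr := fr1) (P.cent2 (fr2.U_le hb)))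
  rwa [one_mul] at h1

theorem ft_of_Uh2 {x : G} (hx : x ∈ P.Uh) : FT fr2 x 1 := by
  obtain ⟨a, ha, b, hb, rfl⟩ := hx
  have h1 := (FT.of_centralizer (fr := fr2) (P.cent1 (fr1.U_le ha))).mul P.Z2 (FT.of_mem_U (fr := fr2) hb)
  rwa [one_mul] at h1

theorem Uh_normal {x v : G} (hx : x ∈ S0 A1 A2 S) (hv : v ∈ P.Uh) : x * v * x⁻¹ ∈ P.Uh := by
  obtain ⟨a, ha, b, hb, rfl⟩ := hv
  refine ⟨_, P.U1_normal hx ha, _, P.U2_normal hx hb, ?_⟩
  group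

/-- the involutions of `w U₂` -/
theorem hilb {w : G} (hw : w ∈ S0 A1 A2 S) (hwN : w ∉ P.Uh) (hw2 : w * w = 1) (hwt : w * (t * w * t) ∈ P.Uh)
    {v : G} (hv : v ∈ fr2.U) (hvw : w * v * w = v⁻¹) : ∃ b ∈ fr2.U, b⁻¹ * w * b = w * v := by
  have hyc : w * w ∈ centralizer (A2 : Set G) := by rw [hw2]; exact one_mem _
  have hn : ¬ FT fr2 w 1 := by
    intro h
    apply hwN
    refine P.mem_Uh_of_ft hw ?_ h
    have h1 := P.ft_swap' h
    have h2 := (P.ft_of_Uh1 hwt).mul P.Z1 (h1.inv P.Z1)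
    rwa [inv_one, one_mul, mul_inv_cancel_right] at h2
  have key : ∀ c ∈ fr2.U, (∃ w' ∈ fr2.U, (c * w * c⁻¹) * (c * v * c⁻¹) = w' * (c * w * c⁻¹) * w'⁻¹) →
      ∃ b ∈ fr2.U, b⁻¹ * w * b = w * v := by
    rintro c hc ⟨w', hw', h⟩
    refine ⟨(c⁻¹ * w' * c)⁻¹, inv_mem (mul_mem (mul_mem (inv_mem hc) hw') hc), ?_⟩
    calc (c⁻¹ * w' * c)⁻¹⁻¹ * w * (c⁻¹ * w' * c)⁻¹ = c⁻¹ * (w' * (c * w * c⁻¹) * w'⁻¹) * c := by group
      _ = c⁻¹ * ((c * w * c⁻¹) * (c * v * c⁻¹)) * c := by rw [h]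
      _ = w * v := by group
  rcases P.ad2.invol P.Z2 P.S0_n2 P.p2 hw hyc with ⟨v', hv', hvc⟩ | ⟨c, hc, σ, hσ2, h1⟩
  · exfalso
    apply hn
    have h2 := (FT.of_mem_U (fr := fr2) hv').mul P.Z2 (FT.of_centralizer (fr := fr2) hvc)
    rwa [one_mul, mul_inv_cancel_left] at h2
  · apply key c hc
    have hv' : c * v * c⁻¹ ∈ fr2.U := mul_mem (mul_mem hc hv) (inv_mem hc)
    have k1 : (c * w * c⁻¹) * (c * w * c⁻¹) ∈ centralizer (A2 : Set G) := by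
      have e : (c * w * c⁻¹) * (c * w * c⁻¹) = c * (w * w) * c⁻¹ := by group
      rw [e, hw2, mul_one, mul_inv_cancel]
      exact one_mem _
    have k2 : (c * w * c⁻¹) * (c * v * c⁻¹) * ((c * w * c⁻¹) * (c * v * c⁻¹)) ∈ centralizer (A2 : Set G) := by
      have e : (c * w * c⁻¹) * (c * v * c⁻¹) * ((c * w * c⁻¹) * (c * v * c⁻¹)) = c * ((w * v * w) * v) * c⁻¹ := by
        group
      rw [e, hvw, inv_mul_cancel, mul_one, mul_inv_cancel]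
      exact one_mem _
    rcases h1 with ⟨hσ, h1⟩ | h1
    · exact conj_of_sq_fld P.Z2 h1 hσ k1 hv' k2
    · exact conj_of_sq_grf P.Z2 h1 k1 hv' k2

/-- elements over involutory types `(s, s)` -/
theorem split {x : G} (hx : x ∈ S0 A1 A2 S) (hxx : x * x ∈ P.Uh) (hxt : x * (t * x * t) ∈ P.Uh) :
    ∃ n ∈ P.Uh, x * n * (x * n) = 1 := by
  -- it suffices to find `v ∈ Uh` with `(v x)² = 1`
  suffices h : ∃ v ∈ P.Uh, v * x * (v * x) = 1 by
    obtain ⟨v, hv, h1⟩ := h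
    refine ⟨x⁻¹ * v * x, ?_, ?_⟩
    · have := P.Uh_normal (inv_mem hx) hv
      rwa [inv_inv] at this
    · have e : x * (x⁻¹ * v * x) = v * x := by group
      rw [e]
      exact h1
  have hcU : ∀ v1 ∈ fr1.U, Fld fr2 v1 1 := by
    intro v1 hv1 i j hij a
    rw [← mem_centralizer_iff.1 (P.cent1 (fr1.U_le hv1)) _ (fr2.mem hij a), mul_inv_cancel_right]
    rfl
  have hcU' : ∀ v2 ∈ fr2.U, Fld fr1 v2 1 := by
    intro v2 hv2 i j hij a
    rw [← mem_centralizer_iff.1 (P.cent2 (fr2.U_le hv2)) _ (fr1.mem hij a), mul_inv_cancel_right]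
    rfl
  obtain ⟨v1, hv1, σ, -, h1 | h1⟩ := P.ad1 x hx
  · have k0 : FT fr1 x σ := ⟨v1, hv1, h1⟩
    have hσ : σ * σ = 1 := (k0.mul P.Z1 k0).eq_of P.Z1 (P.ft_of_Uh1 hxx)
    have h2 : FT fr2 x σ := by
      have h3 := P.ft_swap k0
      have h4 := (P.ft_of_Uh2 hxt).mul P.Z2 (h3.inv P.Z2)
      rwa [one_mul, mul_inv_cancel_right, inv_eq_of_mul_eq_one_left hσ] at h4
    obtain ⟨v2, hv2, h2⟩ := h2
    have hw : v1 * v2 * x ∈ S0 A1 A2 S := mul_mem (mul_mem (P.U1_S0 hv1) (P.U2_S0 hv2)) hx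
    have hc := P.comm _ (fr1.U_le hv1) _ (fr2.U_le hv2)
    have m1 : Fld fr1 (v1 * v2 * x) σ := by
      have h4 := (hcU' v2 hv2).mul h1
      rw [one_mul] at h4
      have e : v1 * v2 * x = v2 * (v1 * x) := by rw [hc, mul_assoc]
      rwa [e]
    have m2 : Fld fr2 (v1 * v2 * x) σ := by
      have h4 := (hcU v1 hv1).mul h2
      rw [one_mul] at h4
      have e : v1 * v2 * x = v1 * (v2 * x) := by rw [mul_assoc]
      rwa [e]
    refine ⟨v1 * v2, ⟨v1, hv1, v2, hv2, rfl⟩, ?_⟩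
    have n1 := m1.mul m1
    have n2 := m2.mul m2
    rw [hσ] at n1 n2
    exact P.triv _ (P.S0_le (mul_mem hw hw)) (mem_centralizer_of_fld_one P.p1 (P.S0_n1 (mul_mem hw hw)) n1)
      (mem_centralizer_of_fld_one P.p2 (P.S0_n2 (mul_mem hw hw)) n2)
  · have k0 : GT fr1 x σ := ⟨v1, hv1, h1⟩
    have hσ : σ * σ = 1 := (k0.mul P.Z1 k0).eq_of P.Z1 (P.ft_of_Uh1 hxx)
    have h2 : GT fr2 x σ := by
      have h3 := P.gt_swap k0
      have h4 := (P.ft_of_Uh2 hxt).mul_gt P.Z2 (h3.inv P.Z2)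
      rwa [one_mul, mul_inv_cancel_right, inv_eq_of_mul_eq_one_left hσ] at h4
    obtain ⟨v2, hv2, h2⟩ := h2
    have hw : v1 * v2 * x ∈ S0 A1 A2 S := mul_mem (mul_mem (P.U1_S0 hv1) (P.U2_S0 hv2)) hx
    have hc := P.comm _ (fr1.U_le hv1) _ (fr2.U_le hv2)
    have m1 : Grf fr1 (v1 * v2 * x) σ := by
      have h4 := (hcU' v2 hv2).mul_grf h1
      rw [one_mul] at h4
      have e : v1 * v2 * x = v2 * (v1 * x) := by rw [hc, mul_assoc]
      rwa [e]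
    have m2 : Grf fr2 (v1 * v2 * x) σ := by
      have h4 := (hcU v1 hv1).mul_grf h2
      rw [one_mul] at h4
      have e : v1 * v2 * x = v1 * (v2 * x) := by rw [mul_assoc]
      rwa [e]
    refine ⟨v1 * v2, ⟨v1, hv1, v2, hv2, rfl⟩, ?_⟩
    have n1 := m1.mul m1
    have n2 := m2.mul m2
    rw [hσ] at n1 n2
    exact P.triv _ (P.S0_le (mul_mem hw hw)) (mem_centralizer_of_fld_one P.p1 (P.S0_n1 (mul_mem hw hw)) n1)
      (mem_centralizer_of_fld_one P.p2 (P.S0_n2 (mul_mem hw hw)) n2)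

end Pre

end

variable {G : Type*} [Group G] [Finite G] {F : Type*} [Field F] [Finite F] [CharP F 2] {G1 G2 : Subgroup G}
  {fr : FrameL3 G1 F} {fr' : FrameL3 G2 F} {E : Subgroup G} {P : Sylow 2 G} {t : G} (W : Wr fr fr' E P t)
  (hF : 4 ≤ Nat.card F)
include W hF

/-- `hilb` of `Wr.outData` -/
theorem hilb : Cfsg.Agent.StdRank2.OutSplit.Hilb (P ⊓ NN G1 G2 : Subgroup G) (fr.U ⊔ fr'.U) fr'.U t := by
  intro w hw hwN hw2 hwt v hv hvw
  rw [← Uh_eq W hF] at hwN hwt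
  exact (pre W hF).hilb hw hwN hw2 hwt hv hvw

/-- `split` of `Wr.outData` -/
theorem split : ∀ x ∈ (P ⊓ NN G1 G2 : Subgroup G), x ∉ fr.U ⊔ fr'.U → x * x ∈ fr.U ⊔ fr'.U →
      x * (t * x * t) ∈ fr.U ⊔ fr'.U → ∃ n ∈ fr.U ⊔ fr'.U, x * n * (x * n) = 1 := by
  intro x hx _ hxx hxt
  rw [← Uh_eq W hF] at hxx hxt ⊢
  exact (pre W hF).split hx hxx hxt

end Cfsg.Agent.StdRank2.L3WJ
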